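import Cfsg.Agent.H953.Cyc.N9b
import Cfsg.Agent.H884.RowAllA
import Cfsg.Agent.LieClassical.OmegaCenter

/-!
# An element of order `r`, `ord_r(q) = 4`, commuting with `Q₈ ∘ Q₈` in `PΩ₈⁻(q)`, `q` odd (helper953, S3679)

* `Q8Cfg` : the configuration;
* `exists_cfg8` : it exists in `PΩ₈⁻(q)`;
* `exists_cfg_as` : and in almost simple groups with this socle.
-/

set_option autoImplicit false
set_option linter.unusedSectionVars false

namespace Cfsg.Agent.H953.N9

open Subgroup Module QuadraticMap Matrix Cfsg.Agent.LieClassical.OrthCore Cfsg.Agent.H955 Cfsg.Agent.H954.TSing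
  Cfsg.Agent.H953.O8 Cfsg.Agent.H884.El Cfsg.Agent.H899.Pt
open Cfsg.Agent.H951 (fx cm Inv mem_fx)
open scoped MatrixGroups Matrix

universe u

/-- an element of order `r` commuting with `Q₈ ∘ Q₈` -/
structure Q8Cfg (r : ℕ) {T : Type*} [Group T] (x a b c d z : T) : Prop where
  ox : orderOf x = r
  ax : a * x = x * a
  bx : b * x = x * b
  cx : c * x = x * c
  dx : d * x = x * d
  aa : a * a = z
  bb : b * b = z
  cc : c * c = z
  dd : d * d = z
  zz : z * z = 1
  z1 : z ≠ 1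
  ab : a * b = z * (b * a)
  cd : c * d = z * (d * c)
  ac : a * c = c * a
  ad : a * d = d * a

theorem Q8Cfg.map {r : ℕ} {T T' : Type*} [Group T] [Group T'] {x a b c d z : T} (h : Q8Cfg r x a b c d z)
    (φ : T →* T') (hφ : Function.Injective φ) : Q8Cfg r (φ x) (φ a) (φ b) (φ c) (φ d) (φ z) where
  ox := by rw [orderOf_injective φ hφ, h.ox]
  ax := by rw [← map_mul, h.ax, map_mul]
  bx := by rw [← map_mul, h.bx, map_mul]
  cx := by rw [← map_mul, h.cx, map_mul]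
  dx := by rw [← map_mul, h.dx, map_mul]
  aa := by rw [← map_mul, h.aa]
  bb := by rw [← map_mul, h.bb]
  cc := by rw [← map_mul, h.cc]
  dd := by rw [← map_mul, h.dd]
  zz := by rw [← map_mul, h.zz, map_one]
  z1 := fun h1 => h.z1 (hφ (h1.trans (map_one φ).symm))
  ab := by rw [← map_mul, h.ab, map_mul, map_mul]
  cd := by rw [← map_mul, h.cd, map_mul, map_mul]
  ac := by rw [← map_mul, h.ac, map_mul]
  ad := by rw [← map_mul, h.ad, map_mul]

variable {F : Type u} [Field F] [Fintype F] {r : ℕ}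

theorem dvd_card_minus (hr : PP (Nat.card F) 4 r) {α β : F}
    (hab : ∀ z₁ z₂ : F, z₁ ^ 2 + α * z₁ * z₂ + β * z₂ ^ 2 = 0 → z₁ = 0 ∧ z₂ = 0) :
    r ∣ Nat.card (Cfsg.POmega F (Cfsg.quadFormMinus 3 F α β)) := by
  have h1 := S0294.result (rfl : Fintype.card F = _) 4 le_rfl α β hab
  have h2 : r ∣ Fintype.card F ^ 4 - 1 := by
    rw [← Nat.card_eq_fintype_card]
    exact (hr.dvd_iff Nat.card_pos 4).2 dvd_rfl
  have h3 : r ∣ Nat.gcd 4 (Fintype.card F ^ 4 + 1) * Nat.card (Cfsg.POmega F (Cfsg.quadFormMinus (4 - 1) F α β)) := by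
    rw [h1]
    refine Dvd.dvd.mul_left (h2.trans ?_) _
    exact Finset.dvd_prod_of_mem (fun i => Fintype.card F ^ (2 * (i + 1)) - 1) (Finset.mem_range.2 (by norm_num : 1 < 4 - 1))
  rcases hr.prime.dvd_mul.1 h3 with h4 | h4
  · have h5 := Nat.le_of_dvd (by norm_num) (h4.trans (Nat.gcd_dvd_left _ _))
    have := hr.lt (by norm_num)
    omega
  · exact h4

set_option maxHeartbeats 1000000 in
/-- **the configuration in `Ω₈⁻(q)`** -/
theorem exists_omega8 (h2 : (2 : F) ≠ 0) (hr : PP (Nat.card F) 4 r) {α β : F}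
    (hab : ∀ z₁ z₂ : F, z₁ ^ 2 + α * z₁ * z₂ + β * z₂ ^ 2 = 0 → z₁ = 0 ∧ z₂ = 0) :
    ∃ x a b c d z : Cfsg.Omega F (Cfsg.quadFormMinus 3 F α β), orderOf x = r ∧
      x ∉ center (Cfsg.Omega F (Cfsg.quadFormMinus 3 F α β)) ∧ z ∉ center (Cfsg.Omega F (Cfsg.quadFormMinus 3 F α β)) ∧
      a * x = x * a ∧ b * x = x * b ∧ c * x = x * c ∧ d * x = x * d ∧ a * a = z ∧ b * b = z ∧ c * c = z ∧ d * d = z ∧
      z * z = 1 ∧ a * b = z * (b * a) ∧ c * d = z * (d * c) ∧ a * c = c * a ∧ a * d = d * a := by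
  have hrf := Fact.mk hr.prime
  have hrd := rd_of_pp hr (by norm_num)
  have hodd : Odd r := hr.odd (by norm_num)
  obtain ⟨Q, hQd⟩ : ∃ Q, Q = LieClassical.QuadForms.minusForm 3 F α β := ⟨_, rfl⟩
  have hQ : Nondeg Q := by rw [hQd]; exact nondeg_minus 3 hab
  have hQm : ¬ IsPlus Q := by rw [hQd]; exact not_isPlus_minus 3 hab
  have hcard := dvd_card_minus hr hab
  rw [← LieClassical.QuadForms.coe_minusForm, ← hQd] at hcard ⊢
  have hfin : Finite (Cfsg.Omega F ⇑Q) := inferInstance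
  have hdim : finrank F ((Fin 3 ⊕ Fin 3) ⊕ Fin 2 → F) = 8 := by
    rw [Module.finrank_fintype_fun_eq_card]
    rfl
  have hrO : r ∣ Nat.card (Cfsg.Omega F ⇑Q) := hcard.trans (Subgroup.card_quotient_dvd_card _)
  obtain ⟨x, hx⟩ := exists_prime_orderOf_dvd_card' r hrO
  have hxr : x ^ r = 1 := by rw [← hx, pow_orderOf_eq_one]
  have hx1 : x ≠ 1 := by
    rintro rfl
    rw [orderOf_one] at hx
    exact hr.prime.one_lt.ne hx
  have hxr' : (x : Cfsg.isometryGroup F ⇑Q) ^ r = 1 := congrArg Subtype.val hxr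
  have hx1' : (x : Cfsg.isometryGroup F ⇑Q) ≠ 1 := fun h => hx1 (Subtype.ext h)
  have hIso : Iso Q (R Q x) r := Iso.mk' hr (by norm_num) (R_pow hxr') (R_iso _)
  -- dimensions
  have hd1 := hrd.dvd_cm (R_pow hxr')
  have hd2 := hrd.le_cm (R_pow hxr') (R_ne_one hx1')
  have hd3 := H951.finrank_fx_add_cm hrd.ne0 (R_pow hxr')
  rw [hdim] at hd3
  have hd8 : finrank F (cm (R Q (x : Cfsg.isometryGroup F ⇑Q))) ≠ 8 := by
    intro h8
    apply hQm
    have h3 : cm (R Q (x : Cfsg.isometryGroup F ⇑Q)) = ⊤ := Submodule.eq_top_of_finrank_eq (by rw [h8, hdim])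
    have h4 := isPlus_cm_iff hIso.two_lt hQ hIso.iso hIso.ne0 hIso.pow (ord_eq hr) (by decide) (A := 2) (by omega)
    rw [h3] at h4
    exact (h4.2 (by decide)).of_equiv Submodule.topEquiv fun _ => rfl
  have hd4 : finrank F (cm (R Q (x : Cfsg.isometryGroup F ⇑Q))) = 4 := by omega
  have hfx4 : finrank F (fx (R Q (x : Cfsg.isometryGroup F ⇑Q))) = 4 := by omega
  have hcn := nondeg_cm hQ hIso.iso hIso.ne0 hIso.pow
  have hperp : perp Q (cm (R Q (x : Cfsg.isometryGroup F ⇑Q))) = fx (R Q (x : Cfsg.isometryGroup F ⇑Q)) :=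
    perp_cm hQ hIso.iso hIso.ne0 hIso.pow
  have hfn : Nondeg (res Q (fx (R Q (x : Cfsg.isometryGroup F ⇑Q)))) := by
    rw [← hperp]
    exact nondeg_perp hQ hcn
  have hfp : IsPlus (res Q (fx (R Q (x : Cfsg.isometryGroup F ⇑Q)))) := by
    rw [isPlus_fx_iff hIso.two_lt hQ (by rw [hdim]; decide) hIso.iso hIso.ne0 hIso.pow (ord_eq hr) (by decide)
      (A := 1) (by omega)]
    exact iff_of_false hQm (by decide)
  obtain ⟨e, he⟩ := exists_equiv_of_isPlus_iff hfn (nondeg_sq4 h2) (by rw [hfx4]; decide)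
    (by rw [hfx4, Module.finrank_fintype_fun_eq_card]; rfl) (iff_of_true hfp isPlus_sq4)
  have he' : ∀ z : fx (R Q (x : Cfsg.isometryGroup F ⇑Q)), sq4 F (e z) = Q (z : _ → F) := he
  have hUZ : IsCompl (cm (R Q (x : Cfsg.isometryGroup F ⇑Q))) (fx (R Q (x : Cfsg.isometryGroup F ⇑Q))) :=
    (H951.isCompl_fx_cm hrd.ne0 (R_pow hxr')).symm
  have hp : ∀ u ∈ cm (R Q (x : Cfsg.isometryGroup F ⇑Q)), ∀ z ∈ fx (R Q (x : Cfsg.isometryGroup F ⇑Q)),
      polar ⇑Q u z = 0 := by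
    intro u hu z hz
    rw [← hperp, mem_perp] at hz
    exact hz u hu
  obtain ⟨φ, hφu, hφz⟩ := exists_ext hUZ hp e he'
  obtain ⟨a, b, c, d, z, ha, hb, hc, hd, haa, hbb, hcc, hdd, hzz, hab', hcd, hac, had, hz⟩ := exists_q8 (F := F)
  -- commuting with `x`
  have hcomm : ∀ g : Cfsg.isometryGroup F ⇑(sq4 F), φ g * x = x * φ g := by
    intro g
    apply R_injective
    apply LinearMap.ext
    intro v
    have h3 : v ∈ cm (R Q (x : Cfsg.isometryGroup F ⇑Q)) ⊔ fx (R Q (x : Cfsg.isometryGroup F ⇑Q)) := by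
      rw [hUZ.sup_eq_top]
      trivial
    obtain ⟨u, hu, w, hw, rfl⟩ := Submodule.mem_sup.1 h3
    have h4 := hφz g ⟨w, hw⟩
    dsimp only at h4
    rw [O8.R_mul, O8.R_mul, map_add, map_add, map_add, map_add, hφu g _ (H951.inv_cm u hu), hφu g u hu, mem_fx.1 hw, h4,
      mem_fx.1 (Subtype.mem (e.symm (R (sq4 F) g (e ⟨w, hw⟩))))]
  let O : ∀ g : Cfsg.isometryGroup F ⇑(sq4 F), g ∈ Cfsg.Omega F ⇑(sq4 F) → Cfsg.Omega F ⇑Q := fun g hg =>
    ⟨φ g, map_Omega φ hg⟩
  have hzO : z ∈ Cfsg.Omega F ⇑(sq4 F) := by rw [← haa]; exact mul_mem ha ha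
  have hcen := LieClassical.OmegaCenter.mem_center_omega_iff Q (nondegenerate_of_nondeg hQ) (by decide)
    (by
      have hfx0 : (0 : ℕ) < finrank F (fx (R Q (x : Cfsg.isometryGroup F ⇑Q))) := by omega
      obtain ⟨U, hU, hUd⟩ := hfp
      have hU0 : U ≠ ⊥ := by
        rintro rfl
        rw [finrank_bot, hfx4] at hUd
        omega
      obtain ⟨u, hu, hu0⟩ := (Submodule.ne_bot_iff _).1 hU0
      exact ⟨u, fun h => hu0 (Subtype.ext h), hU u hu⟩)
  have hzc : O z hzO ∉ center (Cfsg.Omega F ⇑Q) := by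
    intro h
    have hact : ∀ v, R Q (φ z) v = ((LieClassical.OmegaCenter.omegaMat (O z hzO)) *ᵥ v) := by
      intro v
      rw [H501.RowOmega.rho_apply]
      rfl
    rcases (hcen _).1 h with h3 | h3
    · obtain ⟨w, hw, hw0⟩ := (Submodule.ne_bot_iff (fx (R Q (x : Cfsg.isometryGroup F ⇑Q)))).1 (by
        intro h5
        rw [h5, finrank_bot] at hfx4
        omega)
      have h4 := hφz z ⟨w, hw⟩
      dsimp only at h4
      rw [hact, h3, Matrix.one_mulVec, hz, map_neg, e.symm_apply_apply] at h4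
      have h5 : (2 : F) • w = 0 := by
        rw [two_smul]
        nth_rewrite 2 [h4]
        show w + -w = 0
        rw [add_neg_cancel]
      exact hw0 ((smul_eq_zero.1 h5).resolve_left h2)
    · obtain ⟨w, hw, hw0⟩ := (Submodule.ne_bot_iff (cm (R Q (x : Cfsg.isometryGroup F ⇑Q)))).1 (by
        intro h5
        rw [h5, finrank_bot] at hd4
        omega)
      have h4 := hφu z w hw
      rw [hact, h3, Matrix.neg_mulVec, Matrix.one_mulVec] at h4
      have h5 : (2 : F) • w = 0 := by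
        rw [two_smul]
        nth_rewrite 2 [← h4]
        rw [add_neg_cancel]
      exact hw0 ((smul_eq_zero.1 h5).resolve_left h2)
  have hxc : x ∉ center (Cfsg.Omega F ⇑Q) := by
    intro h
    have h3 : x ^ 2 = 1 := by
      apply LieClassical.OmegaCenter.omega_ext
      show LieClassical.OmegaCenter.omegaMat (x ^ 2) = 1
      have h4 : LieClassical.OmegaCenter.omegaMat (x ^ 2) =
          LieClassical.OmegaCenter.omegaMat x * LieClassical.OmegaCenter.omegaMat x := by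
        rw [pow_two]
        rfl
      rcases (hcen _).1 h with h5 | h5
      · rw [h4, h5, mul_one]
      · rw [h4, h5, neg_mul_neg, mul_one]
    apply hx1
    obtain ⟨j, hj⟩ := hodd
    rw [hj, pow_succ, pow_mul, h3, one_pow, one_mul] at hxr
    exact hxr
  have hO : ∀ {g h : Cfsg.Omega F ⇑Q}, (g : Cfsg.isometryGroup F ⇑Q) = h → g = h := fun h => Subtype.ext h
  refine ⟨x, O a ha, O b hb, O c hc, O d hd, O z hzO, hx, hxc, hzc, hO (hcomm a), hO (hcomm b), hO (hcomm c),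
    hO (hcomm d), hO ?_, hO ?_, hO ?_, hO ?_, hO ?_, hO ?_, hO ?_, hO ?_, hO ?_⟩
  · show φ a * φ a = φ z
    rw [← map_mul, haa]
  · show φ b * φ b = φ z
    rw [← map_mul, hbb]
  · show φ c * φ c = φ z
    rw [← map_mul, hcc]
  · show φ d * φ d = φ z
    rw [← map_mul, hdd]
  · show φ z * φ z = 1
    rw [← map_mul, hzz, map_one]
  · show φ a * φ b = φ z * (φ b * φ a)
    rw [← map_mul, hab', map_mul, map_mul]
  · show φ c * φ d = φ z * (φ d * φ c)
    rw [← map_mul, hcd, map_mul, map_mul]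
  · show φ a * φ c = φ c * φ a
    rw [← map_mul, hac, map_mul]
  · show φ a * φ d = φ d * φ a
    rw [← map_mul, had, map_mul]

/-- the quotient -/
theorem Q8Cfg.quot {G : Type*} [Group G] {x a b c d z : G} (hr : r.Prime) (hx : orderOf x = r) (hxc : x ∉ center G)
    (hzc : z ∉ center G) (ax : a * x = x * a) (bx : b * x = x * b) (cx : c * x = x * c) (dx : d * x = x * d)
    (aa : a * a = z) (bb : b * b = z) (cc : c * c = z) (dd : d * d = z) (zz : z * z = 1) (ab : a * b = z * (b * a))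
    (cd : c * d = z * (d * c)) (ac : a * c = c * a) (ad : a * d = d * a) :
    Q8Cfg r (x : G ⧸ center G) (a : G ⧸ center G) b c d z where
  ox := by
    have := Fact.mk hr
    refine orderOf_eq_prime ?_ fun h => hxc ((QuotientGroup.eq_one_iff x).1 h)
    rw [← QuotientGroup.mk_pow, ← hx, pow_orderOf_eq_one]
    rfl
  ax := by rw [← QuotientGroup.mk_mul, ax, QuotientGroup.mk_mul]
  bx := by rw [← QuotientGroup.mk_mul, bx, QuotientGroup.mk_mul]
  cx := by rw [← QuotientGroup.mk_mul, cx, QuotientGroup.mk_mul]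
  dx := by rw [← QuotientGroup.mk_mul, dx, QuotientGroup.mk_mul]
  aa := by rw [← QuotientGroup.mk_mul, aa]
  bb := by rw [← QuotientGroup.mk_mul, bb]
  cc := by rw [← QuotientGroup.mk_mul, cc]
  dd := by rw [← QuotientGroup.mk_mul, dd]
  zz := by rw [← QuotientGroup.mk_mul, zz, QuotientGroup.mk_one]
  z1 := fun h => hzc ((QuotientGroup.eq_one_iff z).1 h)
  ab := by rw [← QuotientGroup.mk_mul, ab, QuotientGroup.mk_mul, QuotientGroup.mk_mul]
  cd := by rw [← QuotientGroup.mk_mul, cd, QuotientGroup.mk_mul, QuotientGroup.mk_mul]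
  ac := by rw [← QuotientGroup.mk_mul, ac, QuotientGroup.mk_mul]
  ad := by rw [← QuotientGroup.mk_mul, ad, QuotientGroup.mk_mul]

/-- **the configuration in `PΩ₈⁻(q)`** -/
theorem exists_cfg8 (h2 : (2 : F) ≠ 0) (hr : PP (Nat.card F) 4 r) {α β : F}
    (hab : ∀ z₁ z₂ : F, z₁ ^ 2 + α * z₁ * z₂ + β * z₂ ^ 2 = 0 → z₁ = 0 ∧ z₂ = 0) :
    ∃ x a b c d z : Cfsg.POmega F (Cfsg.quadFormMinus 3 F α β), Q8Cfg r x a b c d z := by
  obtain ⟨x, a, b, c, d, z, hx, hxc, hzc, ax, bx, cx, dx, aa, bb, cc, dd, zz, ab, cd, ac, ad⟩ :=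
    exists_omega8 h2 hr hab
  exact ⟨_, _, _, _, _, _, Q8Cfg.quot hr.prime hx hxc hzc ax bx cx dx aa bb cc dd zz ab cd ac ad⟩

/-- **the configuration in almost simple groups** -/
theorem exists_cfg_as {T : Type} [Group T] [Finite T] {M : Subgroup T} {q : ℕ} (hodd : Odd q)
    (hM : H884.Row.AS (.ominus 4 q) M) (hr : PP q 4 r) :
    ∃ x a b c d z : T, x ∈ M ∧ Q8Cfg r x a b c d z := by
  obtain ⟨S₀, hSn, hSs, hSna, hC, hS⟩ := hM
  obtain ⟨F, _, _, α, β, hF, hab, ⟨e⟩⟩ := hS.real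
  have h2 : (2 : F) ≠ 0 := by
    intro h
    have : CharP F 2 := CharTwo.of_one_ne_zero_of_two_eq_zero one_ne_zero h
    obtain ⟨n, -, hn⟩ := FiniteField.card F 2
    rw [hF] at hn
    rw [hn] at hodd
    have h3 := hodd
    rw [Nat.odd_pow_iff n.ne_zero] at h3
    exact absurd h3 (by decide)
  obtain ⟨x, a, b, c, d, z, h⟩ := exists_cfg8 (F := F) h2 (by rwa [Nat.card_eq_fintype_card, hF]) hab
  have h3 := h.map (M.subtype.comp (S₀.subtype.comp e.symm.toMonoidHom))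
    (M.subtype_injective.comp (S₀.subtype_injective.comp e.symm.injective))
  exact ⟨_, _, _, _, _, _, SetLike.coe_mem _, h3⟩

end Cfsg.Agent.H953.N9
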