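import Cfsg.Agent.H953.Cyc.N9a
import Cfsg.Agent.H953.Cyc.N9c
import Cfsg.Agent.H899.Pt.EnvI
import Cfsg.Agent.H946.DK.End
import Cfsg.Agent.H884.Mx.NoSq
import Cfsg.Agent.S0292

/-!
# No factorization of `Ω₉(q)`, `q` odd, by an almost simple group with socle `PΩ₈⁻(q)` (helper953, S3679)
-/

set_option autoImplicit false
set_option linter.unusedSectionVars false

namespace Cfsg.Agent.H953.N9

open Subgroup Module QuadraticMap Matrix Cfsg Cfsg.Geo Cfsg.Agent.H884.Cg Cfsg.Agent.H955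
  Cfsg.Agent.LieClassical.OrthCore Cfsg.Agent.LieClassical Cfsg.Agent.LieClassical.OmegaReindex Cfsg.Agent.H899.CG
  Cfsg.Agent.H899.Pt Cfsg.Agent.OrdDiv Cfsg.Agent.H436
open Cfsg.Agent.H884.El (PP)
open Cfsg.Agent.H951 (fx cm Inv mem_fx)

universe u

/-- elements of `Ω` have determinant one -/
theorem det_omega {ι : Type} [Fintype ι] [DecidableEq ι] {F : Type*} [Field F] {Q : (ι → F) → F} (g : Omega F Q) :
    (OmegaCenter.omegaMat g).det = 1 := by
  let φ : isometryGroup F Q →* F := (Matrix.detMonoidHom).comp ((Units.coeHom _).comp (isometryGroup F Q).subtype)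
  have h1 : commutator (isometryGroup F Q) ≤ φ.toHomUnits.ker := Abelianization.commutator_subset_ker _
  have h2 := MonoidHom.mem_ker.1 (h1 g.2)
  exact congrArg Units.val h2

/-- the centre of `Ω_{odd}(q)` is trivial -/
theorem center_odd {ι : Type} [Fintype ι] [DecidableEq ι] {F : Type u} [Field F] [Fintype F] (h2 : (2 : F) ≠ 0)
    {Q : QuadraticForm F (ι → F)} (hD : H390.Lift.Data Q) (hι : Odd (Fintype.card ι)) {k : Omega F ⇑Q}
    (hk : k ∈ Subgroup.center (Omega F ⇑Q)) : k = 1 := by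
  rcases (OmegaCenter.mem_center_omega_iff Q hD.nd hD.dim hD.iso k).1 hk with h | h
  · exact OmegaCenter.omega_ext h
  · exfalso
    have h1 := det_omega k
    rw [h, Matrix.det_neg, hι.neg_one_pow, Matrix.det_one, mul_one] at h1
    apply h2
    have : (1 : F) + 1 = 0 := by
      nth_rewrite 1 [← h1]
      rw [neg_add_cancel]
    rw [← this]
    norm_num

variable {S : Type*} [Group S] [Finite S] {l : ℕ}

theorem false9 {F : Type} [Field F] [Fintype F] {ι : Type} [Fintype ι] [DecidableEq ι] (hodd : Odd (Fintype.card F))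
    (h2 : (2 : F) ≠ 0) {Q : QuadraticForm F (ι → F)} (hQ : Nondeg Q) (hD : H390.Lift.Data Q) (h9 : Fintype.card ι = 9)
    (hT : 2 * Nat.card (POmega F ⇑Q) = Fintype.card F ^ (4 ^ 2) * ∏ i ∈ Finset.range 4, (Fintype.card F ^ (2 * (i + 1)) - 1))
    {A M : Subgroup (POmega F ⇑Q)}
    (hS : IsSimpleGroup S) (hna : ¬ IsMulCommutative S) (hM : H884.Row.AS (.ominus 4 (Fintype.card F)) M)
    (hf : Fac (POmega F ⇑Q) A M S l) : False := by
  obtain ⟨p, f, hp, hf1, hq⟩ : ∃ p f : ℕ, p.Prime ∧ 1 ≤ f ∧ Fintype.card F = p ^ f := by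
    obtain ⟨p, hp⟩ := CharP.exists F
    obtain ⟨f, hp', hf⟩ := FiniteField.card F p
    exact ⟨p, f, hp', f.pos, hf⟩
  have hp2 : p ≠ 2 := by
    rintro rfl
    rw [hq] at hodd
    exact (Nat.not_odd_iff_even.2 ((Nat.even_pow' (by omega)).2 even_two)) hodd
  have hp3 : 3 ≤ p := by
    have := hp.two_le
    omega
  obtain ⟨r, hr⟩ := exists_prim (q := p) (e := 4 * f) (by omega) (by omega) (by omega)
  have hpp : PP (Nat.card F) 4 r := pp_of_prim hq hf1 hr
  have hpp' : PP (Fintype.card F) 4 r := by rwa [Nat.card_eq_fintype_card] at hpp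
  have hfin : Finite (Omega F ⇑Q) := inferInstance
  have hrd := rd_of_pp (by norm_num) hpp
  have h : Env r 4 (QuotientGroup.mk' (Subgroup.center (Omega F ⇑Q))) (rep ⇑Q) :=
    env_omega hD (m := 4) (by norm_num) hpp (by omega)
  have h0 : Conj0 r 4 (rep ⇑Q) := conj0_omega hQ (by norm_num) (by decide) hpp (by omega)
  have hodd9 : Odd (Fintype.card ι) := by rw [h9]; decide
  have hinj : Function.Injective (QuotientGroup.mk' (Subgroup.center (Omega F ⇑Q))) := by
    rw [injective_iff_map_eq_one]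
    intro k hk
    exact center_odd h2 hD hodd9 ((QuotientGroup.eq_one_iff k).1 hk)
  obtain ⟨x, a, b, c, d, z, hxM, hc⟩ := exists_cfg_as hodd hM hpp'
  obtain ⟨x, rfl, hx2, hx3⟩ := h.lift_ne hc.ox
  obtain ⟨a, rfl⟩ := h.surj a
  obtain ⟨b, rfl⟩ := h.surj b
  obtain ⟨c, rfl⟩ := h.surj c
  obtain ⟨d, rfl⟩ := h.surj d
  obtain ⟨z, rfl⟩ := h.surj z
  -- the type of `x`
  have hcomm : ∀ {g k : Omega F ⇑Q}, QuotientGroup.mk' (Subgroup.center (Omega F ⇑Q)) g *
      QuotientGroup.mk' (Subgroup.center (Omega F ⇑Q)) k = QuotientGroup.mk' (Subgroup.center (Omega F ⇑Q)) k *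
      QuotientGroup.mk' (Subgroup.center (Omega F ⇑Q)) g → Commute (rep ⇑Q g) (rep ⇑Q k) := by
    intro g k hgk
    rw [← map_mul, ← map_mul] at hgk
    show _ * _ = _ * _
    rw [← map_mul, hinj hgk, map_mul]
  have hrel : ∀ {g k w : Omega F ⇑Q}, QuotientGroup.mk' (Subgroup.center (Omega F ⇑Q)) g *
      QuotientGroup.mk' (Subgroup.center (Omega F ⇑Q)) k = QuotientGroup.mk' (Subgroup.center (Omega F ⇑Q)) w →
      rep ⇑Q g * rep ⇑Q k = rep ⇑Q w := by
    intro g k w hgk
    rw [← map_mul] at hgk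
    rw [← map_mul, hinj hgk]
  have hx4 : finrank F (cm (rep ⇑Q x)) = 4 := by
    rcases h.type hx2 hx3 with h4 | h8
    · exact h4
    · exfalso
      refine gamma hrd (by decide) h2 h.dim (h.rpow hx2) h8 (hcomm hc.ax) (hcomm hc.bx) (hcomm hc.cx) (hcomm hc.dx)
        (hrel hc.aa) (hrel hc.bb) (hrel hc.cc) (hrel hc.dd) ?_ ?_ ?_ ?_ (hcomm hc.ac) (hcomm hc.ad)
      · rw [hrel (w := 1) (by rw [hc.zz, map_one]), map_one]
      · intro h5
        apply hc.z1
        rw [rep_injective _ (h5.trans (map_one (rep ⇑Q)).symm), map_one]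
      · have h6 := hc.ab
        rw [← map_mul, ← map_mul, ← map_mul] at h6
        rw [← map_mul, ← map_mul, ← map_mul, hinj h6]
      · have h6 := hc.cd
        rw [← map_mul, ← map_mul, ← map_mul] at h6
        rw [← map_mul, ← map_mul, ← map_mul, hinj h6]
  -- numbers
  rw [hq] at hM hT
  obtain ⟨-, hns⟩ := H884.Mx.partC hp hf1 (Or.inl rfl) hM (by decide) le_rfl hr
  have hty := h.fin_type h0 hf hns hxM hx2 hx3 hx4
  have hno := h.fin_no h0 hf hns hxM hx2 hx3 hx4
  have hT' : Nat.gcd 2 (p ^ f - 1) * Nat.card (POmega F ⇑Q) = (p ^ f) ^ (4 ^ 2) * prB (p ^ f) 4 := by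
    rw [H264.GN.prB_eq, ← hT]
    congr 1
    apply Nat.gcd_eq_left
    rw [hq] at hodd
    obtain ⟨j, hj⟩ := hodd
    rw [hj]
    exact ⟨j, by omega⟩
  refine H946.DK.end_ominus h hna hf hp hf1 hq le_rfl (by decide) hr hM hT' ?_ (B := fun u v => polarBilin Q u v)
    ?_ ?_ ?_ ?_ hty hno
  · intro k hk
    refine ⟨1, ?_⟩
    rw [center_odd h2 hD hodd9 ((QuotientGroup.eq_one_iff k).1 hk), map_one, one_smul]
  · intro u v w
    show polarBilin Q (u + v) w = _
    rw [map_add]
    rfl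
  · intro u v w
    show polarBilin Q w (u + v) = _
    rw [map_add]
  · intro u hu
    by_contra hcon
    push Not at hcon
    exact hu (hD.nd.1 u hcon)
  · intro g u v
    exact omega_iso g u v

theorem not_fac_o9 {F : Type} [Field F] [Fintype F] (hodd : Odd (Fintype.card F))
    {A M : Subgroup (POmega F (quadFormOdd 4 F))} (hS : IsSimpleGroup S)
    (hna : ¬ IsMulCommutative S) (hM : H884.Row.AS (.ominus 4 (Fintype.card F)) M) :
    ¬ Fac (POmega F (quadFormOdd 4 F)) A M S l := by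
  intro hf
  have h2 : (2 : F) ≠ 0 := by
    intro h2
    have hch : CharP F 2 := CharTwo.of_one_ne_zero_of_two_eq_zero one_ne_zero h2
    obtain ⟨n, -, hn⟩ := FiniteField.card F 2
    rw [hn] at hodd
    exact (Nat.not_odd_iff_even.2 ((Nat.even_pow' n.ne_zero).2 even_two)) hodd
  have hT := S0292.result (rfl : Fintype.card F = _) hodd 4 (by norm_num)
  have key : ∀ (A M : Subgroup (POmega F (⇑(quadOdd 4 F)))),
      2 * Nat.card (POmega F ⇑(quadOdd 4 F)) =
        Fintype.card F ^ (4 ^ 2) * ∏ i ∈ Finset.range 4, (Fintype.card F ^ (2 * (i + 1)) - 1) →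
      H884.Row.AS (.ominus 4 (Fintype.card F)) M → Fac (POmega F (⇑(quadOdd 4 F))) A M S l → False :=
    fun A M hT hM hf => false9 hodd h2 (nondeg_iff.2 (quadOdd_nondegenerate h2)) (H884.El.data_odd (by norm_num) h2)
      (H884.El.card_odd 4) hT hS hna hM hf
  rw [coe_quadOdd] at key
  exact key A M hT hM hf

end Cfsg.Agent.H953.N9
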