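import Cfsg.Agent.H953.Cyc.O8d
import Cfsg.Agent.H884.RowAllB
import Cfsg.Agent.H264.FKS.TwoRows
import Cfsg.Agent.H902.Facts

/-!
# S3679: the rows `G₂(q)`, `PSL₂(q³)`, `Sz(8)`, `PSL₂(13)` of `PΩ₈⁺(q)` (helper953)

* `fac_dvd_or` : in a factorization of `PΩ₈⁺(q)`: every prime `r` with `ord_r(q) = 4` divides `|M|`, or `q ^ 8 ∣ |M|`;
* `not_fac_of_as` : no factorization with these socles.
-/

set_option autoImplicit false

namespace Cfsg.Agent.H953.O8

open Subgroup Cfsg Cfsg.Agent.OrdDiv Cfsg.Agent.H436 Cfsg.Agent.H915.GN Cfsg.Agent.H264.FKS Cfsg.Agent.H902 Cfsg.Agent.H902.Names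
open Cfsg.Agent.H884.El Cfsg.Agent.H884.Row Cfsg.Agent.H899.CG Cfsg.Agent.H364.OutLie

section index

universe u

variable {F : Type u} [Field F] [Fintype F] {p r : ℕ}
  {S : Type*} [Group S] [Finite S] {A M : Subgroup (Cfsg.POmega F (Cfsg.quadFormPlus 4 F))} {l : ℕ}

theorem pow_dvd_card [hp : Fact p.Prime] {f : ℕ} (hf : 1 ≤ f) (hF : Fintype.card F = p ^ f) :
    p ^ (12 * f) ∣ Nat.card (Cfsg.POmega F (Cfsg.quadFormPlus 4 F)) := by
  have h1 := S0293.result hF 4 le_rfl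
  have h2 : p ^ (12 * f) ∣ Nat.gcd 4 ((p ^ f) ^ 4 - 1) * Nat.card (Cfsg.POmega F (Cfsg.quadFormPlus 4 F)) := by
    rw [h1, ← pow_mul, ← pow_mul, show f * (4 * (4 - 1)) = 12 * f by omega, mul_assoc]
    exact dvd_mul_right _ _
  refine (Nat.Coprime.pow_left _ ?_).dvd_of_dvd_mul_left h2
  rw [Nat.Prime.coprime_iff_not_dvd hp.out]
  intro h
  have h3 := h.trans (Nat.gcd_dvd_right _ _)
  have h4 : p ∣ (p ^ f) ^ 4 := by rw [← pow_mul]; exact dvd_pow_self _ (by omega)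
  have h5 : p ∣ (p ^ f) ^ 4 - ((p ^ f) ^ 4 - 1) := Nat.dvd_sub h4 h3
  rw [Nat.sub_sub_self (Nat.one_le_pow _ _ (pow_pos hp.out.pos f))] at h5
  exact hp.out.one_lt.ne' (Nat.dvd_one.1 h5)

theorem dvd_card_of_pp (hr : PP (Nat.card F) 4 r) :
    r ∣ Nat.card (Cfsg.POmega F (Cfsg.quadFormPlus 4 F)) := by
  have h1 := S0293.result (rfl : Fintype.card F = _) 4 le_rfl
  have h2 : r ∣ Fintype.card F ^ 4 - 1 := by
    rw [← Nat.card_eq_fintype_card]
    exact (hr.dvd_iff Nat.card_pos 4).2 dvd_rfl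
  have h3 : r ∣ Nat.gcd 4 (Fintype.card F ^ 4 - 1) * Nat.card (Cfsg.POmega F (Cfsg.quadFormPlus 4 F)) := by
    rw [h1, mul_assoc]
    exact Dvd.dvd.mul_left (Dvd.dvd.mul_right h2 _) _
  rcases hr.prime.dvd_mul.1 h3 with h4 | h4
  · have h5 := Nat.le_of_dvd (by norm_num) (h4.trans (Nat.gcd_dvd_left _ _))
    have := hr.lt (by norm_num)
    omega
  · exact h4

/-- **the order of `M`** -/
theorem fac_dvd_or (hr : PP (Nat.card F) 4 r) (hS : IsSimpleGroup S) (hna : ¬ IsMulCommutative S)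
    (h : Fac (Cfsg.POmega F (Cfsg.quadFormPlus 4 F)) A M S l) : r ∣ Nat.card M ∨ Nat.card F ^ 8 ∣ Nat.card M := by
  by_cases hd : r ∣ Nat.card M
  · exact .inl hd
  right
  have hfin := finite_pomega (F := F)
  obtain ⟨p, hchar⟩ := CharP.exists F
  obtain ⟨f, hp, hf⟩ := FiniteField.card F p
  have hpf := Fact.mk hp
  have hf1 : 1 ≤ (f : ℕ) := f.2
  have h1 : r ∣ M.index := by
    have h2 := dvd_card_of_pp hr
    rw [← Subgroup.card_mul_index M] at h2
    exact (hr.prime.dvd_mul.1 h2).resolve_left hd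
  have hM0 : Nat.card M ≠ 0 := Nat.card_pos.ne'
  have hi0 : M.index ≠ 0 := M.index_ne_zero_of_finite
  have h2 : M.index.factorization p ≤ 4 * f := by
    have h3 := fac_index' hr hS hna h h1 (Nat.ordProj_dvd M.index p)
    rw [Nat.card_eq_fintype_card, hf, ← pow_mul, mul_comm] at h3
    exact (Nat.pow_dvd_pow_iff_le_right hp.one_lt).1 h3
  have h3 := pow_dvd_card (F := F) hf1 hf
  rw [← Subgroup.card_mul_index M, hp.pow_dvd_iff_le_factorization (mul_ne_zero hM0 hi0),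
    Nat.factorization_mul hM0 hi0, Finsupp.add_apply] at h3
  rw [Nat.card_eq_fintype_card, hf, ← pow_mul, hp.pow_dvd_iff_le_factorization hM0]
  omega

end index

variable {F : Type} [Field F] [Fintype F] {p : ℕ} {S : Type*} [Group S] [Finite S]
  {A M : Subgroup (Cfsg.POmega F (Cfsg.quadFormPlus 4 F))} {l : ℕ}

/-- the order of an almost simple group with socle of Lie type -/
theorem as_card {T : Type} [Group T] [Finite T] {M : Subgroup T} {g : Grp} (hM : AS g M) {s : ℕ} (hs : s.Prime)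
    (hch : HasChar s g) : ∃ X f₁ N c, IsLie g X s f₁ ∧ Art.Real X s f₁ N ∧ Nat.card M ∣ N * (c * f₁) ∧
      c ∣ 24 * Art.dd X (s ^ f₁) ∧ (s = 2 → c ∣ 6 * Art.dd X (s ^ f₁)) := by
  obtain ⟨S₀, hSn, hSs, hSna, hC, hS⟩ := hM
  obtain ⟨X, f₁, hX, hR, -⟩ := exists_lie hs hS hch
  obtain ⟨c, h1, h2, h3⟩ := card_out (fun h => hSna ⟨⟨h⟩⟩) hX hS.real hR
  refine ⟨X, f₁, Nat.card S₀, c, hX, hR, ?_, h2, h3⟩
  rw [← S₀.card_mul_index, ← h1]
  exact Nat.mul_dvd_mul_left _ (index_dvd S₀ hSna hC)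

/-- the part of the order in the characteristic -/
theorem not_pow_dvd {X : Art.Sh} {s f₁ N c n : ℕ} (hR : Art.Real X s f₁ N) (hc : c ∣ 24 * Art.dd X (s ^ f₁))
    (hc2 : s = 2 → c ∣ 6 * Art.dd X (s ^ f₁)) (hn : n ∣ N * (c * f₁)) {k : ℕ} (hk : s ^ k ∣ n) :
    s ^ k ≤ (s ^ f₁) ^ (Art.NN X + 1) := by
  have hs := hR.hp
  have hf := hR.hf
  have hdd := hR.dd_ne
  have hN0 := hR.M_ne
  have hc0 : c ≠ 0 := by
    rintro rfl
    have := Nat.eq_zero_of_zero_dvd hc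
    omega
  have hf0 : f₁ ≠ 0 := by omega
  have hP2 : ∀ {a b}, a ≠ 0 → s ^ b ∣ a → s ^ b ≤ Art.P s a := by
    intro a b ha hb
    exact Nat.pow_le_pow_right hs.pos ((hs.pow_dvd_iff_le_factorization ha).1 hb)
  have h1 := hP2 (mul_ne_zero hN0 (mul_ne_zero hc0 hf0)) (hk.trans hn)
  rw [Art.P_mul hN0 (mul_ne_zero hc0 hf0), Art.P_mul hc0 hf0, hR.P_self] at h1
  have h2 : Art.P s f₁ ≤ f₁ := Art.P_le hf0
  have h3 : Art.P s c ≤ s := by
    by_cases hs2 : s = 2
    · have h4 := Art.P_mono hs (by omega) (hc2 hs2)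
      rw [Art.P_mul (by norm_num) hdd, Art.P_eq_one hR.not_dvd_dd, mul_one] at h4
      refine h4.trans ?_
      rw [hs2, show (6 : ℕ) = 2 ^ 1 * 3 by norm_num, Art.P_pow_self Nat.prime_two (by norm_num), pow_one]
    · have h4 := Art.P_mono hs (by omega) hc
      rw [Art.P_mul (by norm_num) hdd, Art.P_eq_one hR.not_dvd_dd, mul_one] at h4
      refine h4.trans ?_
      by_cases hs3 : s = 3
      · rw [hs3, show (24 : ℕ) = 3 ^ 1 * 8 by norm_num, Art.P_pow_self Nat.prime_three (by norm_num),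
          pow_one]
      · rw [Art.P_eq_one]
        · exact hs.one_lt.le
        · intro h5
          rw [show (24 : ℕ) = 2 ^ 3 * 3 by norm_num] at h5
          rcases hs.dvd_mul.1 h5 with h6 | h6
          · exact hs2 ((Nat.prime_dvd_prime_iff_eq hs Nat.prime_two).1 (hs.dvd_of_dvd_pow h6))
          · exact hs3 ((Nat.prime_dvd_prime_iff_eq hs Nat.prime_three).1 h6)
  have h4 : s * f₁ ≤ s ^ f₁ := by
    obtain ⟨j, rfl⟩ := Nat.exists_eq_add_of_le' hf
    rw [pow_succ, mul_comm]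
    exact Nat.mul_le_mul_right _ (Nat.lt_pow_self hs.one_lt)
  calc s ^ k ≤ (s ^ f₁) ^ Art.NN X * (Art.P s c * Art.P s f₁) := h1
    _ ≤ (s ^ f₁) ^ Art.NN X * (s * f₁) := Nat.mul_le_mul_left _ (Nat.mul_le_mul h3 h2)
    _ ≤ (s ^ f₁) ^ Art.NN X * s ^ f₁ := Nat.mul_le_mul_left _ h4
    _ = _ := by rw [pow_succ]

/-- primes not dividing the order -/
theorem not_dvd_as {X : Art.Sh} {s f₁ N c n r : ℕ} (hR : Art.Real X s f₁ N) (hc : c ∣ 24 * Art.dd X (s ^ f₁))
    (hn : n ∣ N * (c * f₁)) (hr : r.Prime) (h5 : 5 ≤ r) (hf : f₁ < r) (hd : ¬ r ∣ Art.dd X (s ^ f₁)) (hs : r ≠ s)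
    (hnum : ¬ r ∣ Art.num X (s ^ f₁)) : ¬ r ∣ n := by
  intro h
  rcases hr.dvd_mul.1 (h.trans hn) with h1 | h1
  · have h2 : r ∣ Art.dd X (s ^ f₁) * N := Dvd.dvd.mul_left h1 _
    rw [hR.eq] at h2
    rcases hr.dvd_mul.1 h2 with h3 | h3
    · exact hs ((Nat.prime_dvd_prime_iff_eq hr hR.hp).1 (hr.dvd_of_dvd_pow (hr.dvd_of_dvd_pow h3)))
    · exact hnum h3
  · rcases hr.dvd_mul.1 h1 with h2 | h2
    · rcases hr.dvd_mul.1 (h2.trans hc) with h3 | h3
      · rw [show (24 : ℕ) = 2 ^ 3 * 3 by norm_num] at h3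
        rcases hr.dvd_mul.1 h3 with h4 | h4
        · have := Nat.le_of_dvd (by norm_num) (hr.dvd_of_dvd_pow h4)
          omega
        · have := Nat.le_of_dvd (by norm_num) h4
          omega
      · exact hd h3
    · have := Nat.le_of_dvd hR.hf h2
      omega

theorem isLie_g2 {q : ℕ} {X : Art.Sh} {p f : ℕ} (h : IsLie (.g2 q) X p f) : X = .G2 ∧ q = p ^ f := by
  cases h
  exact ⟨rfl, rfl⟩

theorem isLie_psl {n q : ℕ} {X : Art.Sh} {p f : ℕ} (h : IsLie (.psl n q) X p f) : X = .L n ∧ q = p ^ f := by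
  cases h
  exact ⟨rfl, rfl⟩

theorem isLie_sz {q : ℕ} {X : Art.Sh} {p f : ℕ} (h : IsLie (.sz q) X p f) : X = .Sz ∧ q = p ^ f := by
  cases h
  exact ⟨rfl, rfl⟩

/-- **no factorization with the small socles** -/
theorem not_fac_of_as (hS : IsSimpleGroup S) (hna : ¬ IsMulCommutative S) {g : Grp} (hM : AS g M)
    (hg : g = .g2 (Fintype.card F) ∨ g = .psl 2 (Fintype.card F ^ 3) ∨ (Fintype.card F = 4 ∧ g = .sz 8) ∨
      (Fintype.card F = 4 ∧ g = .psl 2 13)) :
    ¬ Fac (Cfsg.POmega F (Cfsg.quadFormPlus 4 F)) A M S l := by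
  intro h
  have hfin := finite_pomega (F := F)
  obtain ⟨p, hchar⟩ := CharP.exists F
  obtain ⟨f, hp, hf⟩ := FiniteField.card F p
  have hpf := Fact.mk hp
  have hf1 : 1 ≤ (f : ℕ) := f.2
  generalize (f : ℕ) = f' at hf hf1
  obtain ⟨r, hr, hlt⟩ := exists_big hp hf1 (n := 4) (by norm_num) (by omega)
  have hrPP : PP (Nat.card F) 4 r := by
    rw [Nat.card_eq_fintype_card, hf]
    exact H884.Ig.pp_of_prim (Nat.one_le_pow _ _ hp.pos) hr
  have hrp : r ≠ p := by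
    rintro rfl
    exact hr.not_dvd (dvd_pow_self _ (by omega))
  have h5 : 5 ≤ r := five_le_of_prim (by norm_num) hr
  have hM0 : Nat.card M ≠ 0 := Nat.card_pos.ne'
  have hq : 1 < p ^ f' := Nat.one_lt_pow (by omega) hp.one_lt
  have key := fac_dvd_or hrPP hS hna h
  rw [Nat.card_eq_fintype_card (α := F), hf] at key
  have hd2 : ∀ {k : ℕ}, ¬ 4 ∣ k → ¬ r ∣ (p ^ f') ^ k - 1 := fun hk hd => hk ((hr.dvd_iff _).1 hd)
  have hd1 : ¬ r ∣ 1 := fun h => by have := Nat.le_of_dvd (by norm_num) h; omega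
  have h255 : r ∣ (p ^ f') ^ 4 - 1 := (hr.dvd_iff _).2 dvd_rfl
  rcases hg with rfl | rfl | ⟨h4, rfl⟩ | ⟨h4, rfl⟩
  · -- `G₂(q)`
    obtain ⟨X, f₁, N, c, hX, hR, hn, hc, hc2⟩ := as_card hM hp ⟨f', hf⟩
    obtain ⟨rfl, h1⟩ := isLie_g2 hX
    have hff : f' = f₁ := Nat.pow_right_injective hp.two_le (hf.symm.trans h1)
    subst hff
    rcases key with h2 | h2
    · refine not_dvd_as hR hc hn hr.prime h5 (by omega) hd1 hrp ?_ h2
      intro h3
      rcases hr.prime.dvd_mul.1 h3 with h4 | h4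
      · exact hd2 (by norm_num) h4
      · exact hd2 (by norm_num) h4
    · rw [← pow_mul] at h2
      have h3 := not_pow_dvd hR hc hc2 hn h2
      rw [← pow_mul, Nat.pow_le_pow_iff_right hp.one_lt] at h3
      have h4 : f' * (6 + 1) = f' * (Art.NN .G2 + 1) := rfl
      omega
  · -- `PSL₂(q³)`
    obtain ⟨X, f₁, N, c, hX, hR, hn, hc, hc2⟩ := as_card hM hp
      (⟨3 * f', by rw [hf, ← pow_mul, mul_comm]⟩ : HasChar p (.psl 2 (Fintype.card F ^ 3)))
    obtain ⟨rfl, h1⟩ := isLie_psl hX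
    rw [hf, ← pow_mul] at h1
    have hff : f' * 3 = f₁ := Nat.pow_right_injective hp.two_le h1
    subst hff
    rcases key with h2 | h2
    · refine not_dvd_as hR hc hn hr.prime h5 (by omega) (fun h3 => ?_) hrp ?_ h2
      · have := Nat.le_of_dvd (by norm_num) (h3.trans (Nat.gcd_dvd_left 2 _))
        omega
      · intro h3
        have h4 : Art.num (.L 2) (p ^ (f' * 3)) = (p ^ f') ^ 6 - 1 := by
          rw [show Art.num (.L 2) (p ^ (f' * 3)) = ∏ i ∈ Finset.range 1, ((p ^ (f' * 3)) ^ (i + 2) - 1) from rfl,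
            Finset.prod_range_one, ← pow_mul, ← pow_mul]
          congr 2
          ring
        rw [h4] at h3
        exact hd2 (by norm_num) h3
    · rw [← pow_mul] at h2
      have h3 := not_pow_dvd hR hc hc2 hn h2
      rw [← pow_mul, Nat.pow_le_pow_iff_right hp.one_lt] at h3
      have h4 : f' * 3 * (1 + 1) = f' * 3 * (Art.NN (.L 2) + 1) := rfl
      omega
  · -- `Sz(8)`
    obtain ⟨X, f₁, N, c, hX, hR, hn, hc, hc2⟩ := as_card hM Nat.prime_two
      (⟨3, by norm_num⟩ : HasChar 2 (.sz 8))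
    obtain ⟨rfl, h1⟩ := isLie_sz hX
    have hff : 3 = f₁ := Nat.pow_right_injective (le_refl 2) ((by norm_num : 2 ^ 3 = 8).trans h1)
    subst hff
    rw [← hf, h4] at key h255
    rw [← hf, h4] at hd2
    rcases key with h2 | h2
    · refine not_dvd_as hR hc hn hr.prime h5 (by omega) hd1 (by omega) ?_ h2
      intro h3
      have h6 : r ∣ 455 := h3
      have h7 : r ∣ Nat.gcd 455 255 := Nat.dvd_gcd h6 (by simpa using h255)
      have h8 : r ∣ 5 := by simpa using h7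
      exact hd2 (k := 2) (by norm_num) (h8.trans (by norm_num))
    · have h3 := not_pow_dvd (k := 16) hR hc hc2 hn (by rwa [show (4 : ℕ) ^ 8 = 2 ^ 16 by norm_num] at h2)
      rw [← pow_mul, Nat.pow_le_pow_iff_right (by norm_num)] at h3
      have h4 : 3 * (2 + 1) = 3 * (Art.NN .Sz + 1) := rfl
      omega
  · -- `PSL₂(13)`
    obtain ⟨X, f₁, N, c, hX, hR, hn, hc, hc2⟩ := as_card hM (by norm_num : Nat.Prime 13)
      (⟨1, by norm_num⟩ : HasChar 13 (.psl 2 13))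
    obtain ⟨rfl, h1⟩ := isLie_psl hX
    have hff : 1 = f₁ := Nat.pow_right_injective (by norm_num : 2 ≤ 13) ((by norm_num : 13 ^ 1 = 13).trans h1)
    subst hff
    rw [← hf, h4] at key h255
    have h255' : r ∣ 255 := by simpa using h255
    rcases key with h2 | h2
    · refine not_dvd_as hR hc hn hr.prime h5 (by omega) (fun h3 => ?_) ?_ ?_ h2
      · have := Nat.le_of_dvd (by norm_num) (h3.trans (Nat.gcd_dvd_left 2 _))
        omega
      · rintro rfl
        revert h255'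
        norm_num
      · intro h3
        have h6 : r ∣ 168 := h3
        have h7 : r ∣ Nat.gcd 168 255 := Nat.dvd_gcd h6 h255'
        have := Nat.le_of_dvd (by norm_num) h7
        have h8 : Nat.gcd 168 255 = 3 := by norm_num
        omega
    · have h3 : Art.dd (.L 2) (13 ^ 1) * N = 13 * 168 := hR.eq
      have h6 : Art.dd (.L 2) (13 ^ 1) = 2 := rfl
      rw [h6] at h3 hc
      have h7 : N = 1092 := by omega
      rw [h7] at hn
      have h8 := Nat.le_of_dvd (by norm_num) hc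
      have hc0 : 0 < c := Nat.pos_of_ne_zero (by
        rintro rfl
        have := Nat.eq_zero_of_zero_dvd hc
        omega)
      have h9 := Nat.le_of_dvd (by omega) hn
      have h10 := Nat.le_of_dvd (Nat.pos_of_ne_zero hM0) h2
      omega

end Cfsg.Agent.H953.O8
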