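import Cfsg.Agent.H953.Cyc.O8m

/-!
# S3679: the rows `Ω₇(q)`, `PSp₆(q)` of `PΩ₈⁺(q)`, `q ≥ 4` (helper953)

`not_fac_of_as7` : no factorization `PΩ₈⁺(q) = A M`, `M` almost simple with socle `Ω₇(q)` or `PSp₆(q)`.
-/

set_option autoImplicit false

namespace Cfsg.Agent.H953.O8

open Subgroup Cfsg Cfsg.Agent.OrdDiv Cfsg.Agent.H436 Cfsg.Agent.H915.GN Cfsg.Agent.H264.FKS Cfsg.Agent.H902 Cfsg.Agent.H902.Names
open Cfsg.Agent.H884.El Cfsg.Agent.H884.Row Cfsg.Agent.H899.CG Cfsg.Agent.H899.Pt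

/-- the order of `M` -/
theorem card_as7 {T : Type} [Group T] [Finite T] {M : Subgroup T} {g : Grp} (hM : AS g M) {p f : ℕ} (hp : p.Prime)
    (hf : 1 ≤ f) (hg : g = .oodd 3 (p ^ f) ∨ g = .psp 3 (p ^ f)) :
    ∃ N e, Nat.card M = N * e ∧ Art.Real (.C 3) p f N ∧ e ∣ Nat.gcd 2 (p ^ f - 1) * f := by
  have hpf := Fact.mk hp
  obtain ⟨S₀, hSn, hSs, hSna, hC, hS⟩ := hM
  have hidx := index_dvd S₀ hSna hC
  refine ⟨Nat.card S₀, S₀.index, (S₀.card_mul_index).symm, ?_⟩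
  rcases hg with rfl | rfl
  · have hc := hS.cond
    have hodd : Odd (p ^ f) := hc.2.1
    obtain ⟨F, _, _, hF, ⟨e⟩⟩ := hS.real
    refine ⟨by rw [Nat.card_congr e.toEquiv]; exact oodd_real hp hf hF hc.1 hc.2.1, ?_⟩
    have hpo : Odd p := (Nat.odd_pow_iff (by omega)).1 hodd
    have h1 := Cfsg.Agent.S0816.result p f hf hF hpo 3 le_rfl
    have h2 : Nat.card (MulAut S₀) = (2 * f) * Nat.card S₀ := by
      rw [H364.OutLie.mulaut_congr e, h1, Nat.card_congr e.toEquiv]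
    have h3 := H934.OutB.card_out_of_aut hSna h2
    rw [h3] at hidx
    have h4 : Nat.gcd 2 (p ^ f - 1) = 2 := by
      apply Nat.gcd_eq_left
      obtain ⟨k, hk⟩ := hodd
      exact ⟨k, by omega⟩
    rwa [h4]
  · have hc := hS.cond
    obtain ⟨F, _, _, hF, ⟨e⟩⟩ := hS.real
    refine ⟨by rw [Nat.card_congr e.toEquiv]; exact psp_real hp hf hF hc.1 hc.2.1, ?_⟩
    have h1 := Cfsg.Agent.S0814.result p f hf hF 3 (by norm_num) (by norm_num)
    have h2 : Nat.card (MulAut S₀) = (Nat.gcd 2 (p ^ f - 1) * f) * Nat.card S₀ := by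
      rw [H364.OutLie.mulaut_congr e, h1, Nat.card_congr e.toEquiv, if_neg (by norm_num), one_mul]
    have h3 := H934.OutB.card_out_of_aut hSna h2
    rwa [h3] at hidx

/-- `M` has no `C_r × C_r` -/
theorem noSq_as7 {T : Type} [Group T] [Finite T] {M : Subgroup T} {g : Grp} (hM : AS g M) {p f r : ℕ} (hp : p.Prime)
    (hf : 1 ≤ f) (hg : g = .oodd 3 (p ^ f) ∨ g = .psp 3 (p ^ f)) (hr : Prim (p ^ f) 4 r) (hlt : f * 4 < r) :
    NoSq M r := by
  obtain ⟨S₀, hSn, hSs, hSna, hC, hS⟩ := hM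
  refine noSq_of_cyc' ?_ hr.prime
  refine cyc_four S₀ hSna hC ?_ hS hp hf hr hlt (by norm_num) (by norm_num)
  rcases hg with rfl | rfl
  · exact Or.inr (Or.inr (Or.inr rfl))
  · exact Or.inr (Or.inr (Or.inl rfl))

variable {F : Type} [Field F] [Fintype F] {S : Type*} [Group S] [Finite S]
  {A M : Subgroup (Cfsg.POmega F (Cfsg.quadFormPlus 4 F))} {l : ℕ}

/-- the order of `PΩ₈⁺(q)` -/
theorem card_plus {p f : ℕ} (hp : p.Prime) (hF : Fintype.card F = p ^ f) :
    Nat.gcd 2 (p ^ f - 1) ^ 2 * Nat.card (Cfsg.POmega F (Cfsg.quadFormPlus 4 F)) =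
      (p ^ f) ^ 12 * ((p ^ f) ^ 4 - 1) * (((p ^ f) ^ 2 - 1) * ((p ^ f) ^ 4 - 1) * ((p ^ f) ^ 6 - 1)) := by
  have h1 := S0293.result hF 4 le_rfl
  have h2 : Nat.gcd 4 ((p ^ f) ^ 4 - 1) = Nat.gcd 2 (p ^ f - 1) ^ 2 := by
    have hq : 1 ≤ p ^ f := Nat.one_le_pow _ _ hp.pos
    generalize p ^ f = q at hq
    rcases Nat.even_or_odd q with h | h
    · have h3 : Nat.gcd 2 (q - 1) = 1 := by
        rw [← Nat.coprime_iff_gcd_eq_one, Nat.coprime_two_left]
        obtain ⟨k, hk⟩ := h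
        exact ⟨k - 1, by omega⟩
      have h4 : Nat.gcd 4 (q ^ 4 - 1) = 1 := by
        rw [← Nat.coprime_iff_gcd_eq_one]
        have h5 : Nat.Coprime 2 (q ^ 4 - 1) := by
          rw [Nat.coprime_two_left]
          have h6 : Even (q ^ 4) := h.pow_of_ne_zero (by norm_num)
          have h7 : 1 ≤ q ^ 4 := Nat.one_le_pow _ _ (by omega)
          obtain ⟨k, hk⟩ := h6
          exact ⟨k - 1, by omega⟩
        exact Nat.Coprime.pow_left 2 h5
      rw [h3, h4, one_pow]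
    · have h3 : Nat.gcd 2 (q - 1) = 2 := by
        apply Nat.gcd_eq_left
        obtain ⟨k, hk⟩ := h
        exact ⟨k, by omega⟩
      have h4 : Nat.gcd 4 (q ^ 4 - 1) = 4 := by
        apply Nat.gcd_eq_left
        obtain ⟨k, rfl⟩ := h
        have h5 : (2 * k + 1) ^ 4 - 1 = 4 * (4 * k ^ 4 + 8 * k ^ 3 + 6 * k ^ 2 + 2 * k) := by
          have : (2 * k + 1) ^ 4 = 4 * (4 * k ^ 4 + 8 * k ^ 3 + 6 * k ^ 2 + 2 * k) + 1 := by ring
          omega
        rw [h5]
        exact dvd_mul_right _ _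
      rw [h3, h4]
      norm_num
  rw [h2] at h1
  rw [h1]
  have h3 : ∏ i ∈ Finset.range (4 - 1), ((p ^ f) ^ (2 * (i + 1)) - 1) =
      ((p ^ f) ^ 2 - 1) * ((p ^ f) ^ 4 - 1) * ((p ^ f) ^ 6 - 1) := by
    simp [Finset.prod_range_succ]
  rw [h3]

/-- **no factorization with socle `Ω₇(q)` or `PSp₆(q)`** -/
theorem not_fac_of_as7 (hS : IsSimpleGroup S) (hna : ¬ IsMulCommutative S) {g : Grp} (hM : AS g M)
    (hg : g = .oodd 3 (Fintype.card F) ∨ g = .psp 3 (Fintype.card F)) (hq : 4 ≤ Fintype.card F) :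
    ¬ Fac (Cfsg.POmega F (Cfsg.quadFormPlus 4 F)) A M S l := by
  intro h
  have hfin := finite_pomega (F := F)
  obtain ⟨p, hchar⟩ := CharP.exists F
  obtain ⟨f, hp, hF⟩ := FiniteField.card F p
  have hpf := Fact.mk hp
  have hf1 : 1 ≤ (f : ℕ) := f.2
  generalize (f : ℕ) = f' at hF hf1
  obtain ⟨r, hrP⟩ := exists_prim (q := p) (e := f' * 4) hp.two_le (by omega) (by omega)
  have hr : Prim (p ^ f') 4 r := H264.GN.prim_pow hf1 hrP
  have hlt : f' * 4 < r := H264.GN.lt_of_prim hrP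
  have hrP' : Prim p (4 * f') r := by rwa [mul_comm] at hrP
  have hrPP : PP (Nat.card F) 4 r := by
    rw [Nat.card_eq_fintype_card, hF]
    exact H884.Ig.pp_of_prim (Nat.one_le_pow _ _ hp.pos) hr
  have hrp : r ≠ p := by
    rintro rfl
    exact hr.not_dvd (dvd_pow_self _ (by omega))
  rw [hF] at hg hq
  obtain ⟨N, e, hMe, hR, he⟩ := card_as7 hM hp hf1 hg
  have hsq := noSq_as7 hM hp hf1 hg hr hlt
  obtain ⟨d, hd⟩ : ∃ d, d = Nat.gcd 2 (p ^ f' - 1) := ⟨_, rfl⟩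
  have hd1 : d ∣ p ^ f' - 1 := by rw [hd]; exact Nat.gcd_dvd_right _ _
  have hN : d * N = (p ^ f') ^ 9 * (((p ^ f') ^ 2 - 1) * ((p ^ f') ^ 4 - 1) * ((p ^ f') ^ 6 - 1)) := by
    have h1 : Nat.gcd 2 (p ^ f' - 1) * N = (p ^ f') ^ 9 * ∏ i ∈ Finset.range 3, ((p ^ f') ^ (2 * (i + 1)) - 1) := hR.eq
    rw [hd, h1]
    simp [Finset.prod_range_succ]
  have hT := card_plus (F := F) hp hF
  rw [← hd] at hT he
  have hM0 : Nat.card M ≠ 0 := Nat.card_pos.ne'
  have he0 : e ≠ 0 := by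
    rintro rfl
    exact hM0 (by rw [hMe, mul_zero])
  have hS0 : Nat.card S ≠ 0 := Nat.card_pos.ne'
  have h5 : 5 ≤ r := by omega
  have hrV : r ∣ (p ^ f') ^ 4 - 1 := (hr.dvd_iff _).2 dvd_rfl
  have hrd : ¬ r ∣ d := by
    intro h1
    have h2 := h1.trans (hd ▸ Nat.gcd_dvd_left 2 _ : d ∣ 2)
    have := Nat.le_of_dvd (by norm_num) h2
    omega
  have hre : ¬ r ∣ e := by
    intro h1
    rcases hr.prime.dvd_mul.1 (h1.trans he) with h2 | h2
    · exact hrd h2
    · have := Nat.le_of_dvd (by omega) h2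
      omega
  -- the number of factors
  have hcm := h.card_mul
  rw [h.card_eq, hMe] at hcm
  have hrS : r ∣ Nat.card S := by
    have h1 : (d * e) * M.index = (p ^ f') ^ 3 * ((p ^ f') ^ 4 - 1) := by
      have hW := w_pos hp hf1
      have hq0 : 0 < p ^ f' := by omega
      have hd0 : 0 < d := Nat.pos_of_ne_zero (by
        rintro rfl
        exact hrd (dvd_zero r))
      have h2 : Nat.card M * M.index = Nat.card (Cfsg.POmega F (Cfsg.quadFormPlus 4 F)) := M.card_mul_index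
      rw [hMe] at h2
      rw [← h2] at hT
      generalize ((p ^ f') ^ 2 - 1) * ((p ^ f') ^ 4 - 1) * ((p ^ f') ^ 6 - 1) = W at hN hT hW
      generalize (p ^ f') ^ 4 - 1 = V at hT ⊢
      generalize p ^ f' = q at hN hT hq0 ⊢
      have hpos : 0 < q ^ 9 * W := Nat.mul_pos (pow_pos hq0 9) hW
      apply Nat.eq_of_mul_eq_mul_left hpos
      calc q ^ 9 * W * (d * e * M.index) = (d * N) * (d * e * M.index) := by rw [hN]
        _ = d ^ 2 * (N * e * M.index) := by ring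
        _ = q ^ 12 * V * W := hT
        _ = q ^ 9 * W * (q ^ 3 * V) := by ring
    have h2 : r ∣ (d * e) * M.index := by
      rw [h1]
      exact Dvd.dvd.mul_left hrV _
    rcases hr.prime.dvd_mul.1 h2 with h3 | h3
    · rcases hr.prime.dvd_mul.1 h3 with h4 | h4
      · exact absurd h4 hrd
      · exact absurd h4 hre
    · exact hr.prime.dvd_of_dvd_pow (h3.trans h.index_dvd)
  obtain rfl := fac_eq_two hrPP h hrS
  have hstar := num_star hp hf1 hN hT hcm
  have hpS := pow_dvd_S hp hf1 hd1 he he0 hS0 hstar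
  obtain ⟨hn1, hn2⟩ := not_small hp hf1 hq hpS hlt
  -- the factors
  obtain ⟨e₀⟩ := h.iso
  let σ : S × S ≃* (Fin 2 → S) :=
    { toFun := fun c => ![c.1, c.2]
      invFun := fun g => (g 0, g 1)
      left_inv := fun c => rfl
      right_inv := fun g => by
        funext i
        fin_cases i <;> rfl
      map_mul' := fun a b => by
        funext i
        fin_cases i <;> rfl }
  let ψ : S × S →* Cfsg.POmega F (Cfsg.quadFormPlus 4 F) := A.subtype.comp ((σ.trans e₀.symm).toMonoidHom)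
  have hψ : Function.Injective ψ := A.subtype_injective.comp (σ.trans e₀.symm).injective
  have hA : ψ.range = A := by
    show (A.subtype.comp ((σ.trans e₀.symm).toMonoidHom)).range = A
    rw [MonoidHom.range_comp, MonoidHom.range_eq_top.2 (σ.trans e₀.symm).surjective, ← MonoidHom.range_eq_map,
      Subgroup.range_subtype]
  obtain ⟨E, hE1, hE2, hE, ⟨eE⟩⟩ := (struct hrPP hp hf1 hF hrP' hS hna ψ hψ hrS).resolve_right (by
    rintro (h1 | h1)
    · exact hn1 h1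
    · exact hn2 h1)
  -- the order of `S`
  have hSc : d * Nat.card S = (p ^ f') ^ 2 * ((p ^ f') ^ 4 - 1) := by
    have h1 := ClassicalGeometry.PSL2Basic.card_PSL2_gcd E
    rw [hE, ← Nat.card_congr eE.toEquiv] at h1
    have h2 : Nat.gcd 2 (p ^ (2 * f') - 1) = d := by
      rw [hd, mul_comm 2 f', pow_mul]
      have hq1 : 1 ≤ p ^ f' := by omega
      generalize p ^ f' = q at hq1
      rcases Nat.even_or_odd q with h | h
      · have h3 : Nat.gcd 2 (q - 1) = 1 := by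
          rw [← Nat.coprime_iff_gcd_eq_one, Nat.coprime_two_left]
          obtain ⟨k, hk⟩ := h
          exact ⟨k - 1, by omega⟩
        have h4 : Nat.gcd 2 (q ^ 2 - 1) = 1 := by
          rw [← Nat.coprime_iff_gcd_eq_one, Nat.coprime_two_left]
          have h6 : Even (q ^ 2) := h.pow_of_ne_zero (by norm_num)
          have h7 : 1 ≤ q ^ 2 := Nat.one_le_pow _ _ (by omega)
          obtain ⟨k, hk⟩ := h6
          exact ⟨k - 1, by omega⟩
        rw [h3, h4]
      · have h3 : Nat.gcd 2 (q - 1) = 2 := by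
          apply Nat.gcd_eq_left
          obtain ⟨k, hk⟩ := h
          exact ⟨k, by omega⟩
        have h4 : Nat.gcd 2 (q ^ 2 - 1) = 2 := by
          apply Nat.gcd_eq_left
          obtain ⟨k, hk⟩ := h.pow (n := 2)
          exact ⟨k, by omega⟩
        rw [h3, h4]
    rw [h2] at h1
    have h3 : p ^ (2 * f') = (p ^ f') ^ 2 := by rw [← pow_mul, mul_comm]
    rw [mul_comm, h1, h3, ← pow_mul (p ^ f') 2 2]
  -- `r` divides the order of the intersection
  have hrD : r ∣ Nat.card (A ⊓ M : Subgroup _) := by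
    have hq0 : 0 < p ^ f' := by omega
    have hV : 0 < (p ^ f') ^ 4 - 1 := by
      have := Nat.one_lt_pow (show 4 ≠ 0 by norm_num) (show 1 < p ^ f' by omega)
      omega
    have hDe : d * Nat.card (A ⊓ M : Subgroup _) = e * ((p ^ f') * ((p ^ f') ^ 4 - 1)) := by
      have hpos : 0 < (p ^ f') ^ 3 * ((p ^ f') ^ 4 - 1) := Nat.mul_pos (pow_pos hq0 3) hV
      apply Nat.eq_of_mul_eq_mul_left hpos
      calc (p ^ f') ^ 3 * ((p ^ f') ^ 4 - 1) * (d * Nat.card (A ⊓ M : Subgroup _)) =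
            d * ((p ^ f') ^ 3 * ((p ^ f') ^ 4 - 1) * Nat.card (A ⊓ M : Subgroup _)) := by ring
        _ = d * (d * e * Nat.card S ^ 2) := by rw [hstar]
        _ = e * (d * Nat.card S) ^ 2 := by ring
        _ = e * ((p ^ f') ^ 2 * ((p ^ f') ^ 4 - 1)) ^ 2 := by rw [hSc]
        _ = _ := by ring
    have h1 : r ∣ d * Nat.card (A ⊓ M : Subgroup _) := by
      rw [hDe]
      exact Dvd.dvd.mul_left (Dvd.dvd.mul_left hrV _) _
    exact (hr.prime.dvd_mul.1 h1).resolve_left hrd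
  exact num_final hp hf1 hq hlt hrp hd he hSc hstar
    (dk_inter hrPP hp hf1 hrP' hS hna ψ hψ hA h.fac hsq hE eE hrS hrD)

end Cfsg.Agent.H953.O8
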