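import Cfsg.Agent.H953.Cyc.O8b
import Cfsg.Agent.H200.LinFixC
import Cfsg.Agent.H501.RealGen

/-!
# Lifting commuting pairs, perfect subgroups and `r`-subgroups through a central extension by an elementary abelian
2-group (helper953, S3679)

* `lift_elt`, `exists_perfect_lift`, `exists_lift_pgroup`;
* `exists_fx_ne_bot`, `card_le_of_elem` : elementary abelian `r`-groups in dimension 8, `ord_r(q) = 4`.
-/

set_option autoImplicit false

namespace Cfsg.Agent.H953.O8

open Subgroup

section lift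

variable {E T : Type*} [Group E] [Group T]

/-- a lift of the same odd order, with the full centralizer -/
theorem lift_elt (π : E →* T) (hπ : Function.Surjective π) (hz : ∀ z ∈ π.ker, z * z = 1 ∧ ∀ g, g * z = z * g) {r : ℕ}
    (hr : Odd r) {x : T} (hx : x ^ r = 1) :
    ∃ y : E, π y = x ∧ y ^ r = 1 ∧ ∀ g : E, π g * x = x * π g → g * y = y * g := by
  obtain ⟨y0, hy0⟩ := hπ x
  obtain ⟨k, hk⟩ := hr
  have h1 : y0 ^ r ∈ π.ker := by rw [MonoidHom.mem_ker, map_pow, hy0, hx]
  have hyr : (y0 ^ (r + 1)) ^ r = 1 := by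
    rw [← pow_mul, mul_comm, pow_mul, hk, show 2 * k + 1 + 1 = 2 * (k + 1) by ring, pow_mul, pow_two, ← hk,
      (hz _ h1).1, one_pow]
  refine ⟨y0 ^ (r + 1), by rw [map_pow, hy0, pow_succ, hx, one_mul], hyr, ?_⟩
  generalize hy : y0 ^ (r + 1) = y at hyr
  have hyx : π y = x := by rw [← hy, map_pow, hy0, pow_succ, hx, one_mul]
  intro g hg
  have hzk : g * y * g⁻¹ * y⁻¹ ∈ π.ker := by
    rw [MonoidHom.mem_ker, map_mul, map_mul, map_mul, map_inv, map_inv, hyx, hg]
    group
  obtain ⟨z, hzz⟩ : ∃ z, z = g * y * g⁻¹ * y⁻¹ := ⟨_, rfl⟩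
  rw [← hzz] at hzk
  obtain ⟨h2, h3⟩ := hz z hzk
  have h4 : g * y * g⁻¹ = z * y := by rw [hzz]; group
  have h5 : (g * y * g⁻¹) ^ r = 1 := by
    rw [conj_pow, hyr]
    group
  rw [h4, (show Commute z y from (h3 y).symm).mul_pow, hyr, mul_one] at h5
  have h6 : z = 1 := by
    rw [hk, pow_succ, pow_mul, pow_two, h2, one_pow, one_mul] at h5
    exact h5
  rw [h6, one_mul] at h4
  exact mul_inv_eq_iff_eq_mul.1 h4

/-- a perfect subgroup lifts to a perfect subgroup -/
theorem exists_perfect_lift [Finite E] (π : E →* T) (hπ : Function.Surjective π) {H : Subgroup T} (hH : ⁅H, H⁆ = H) :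
    ∃ K : Subgroup E, ⁅K, K⁆ = K ∧ K.map π = H := by
  have hex : ∃ K : Subgroup E, K.map π = H := ⟨H.comap π, Subgroup.map_comap_eq_self_of_surjective hπ H⟩
  obtain ⟨K, hK⟩ := Set.Finite.exists_minimal (s := {K : Subgroup E | K.map π = H}) (Set.toFinite _) hex
  refine ⟨K, ?_, hK.1⟩
  have h1 : ⁅K, K⁆ ≤ K := Subgroup.commutator_le_self K
  apply le_antisymm h1
  apply hK.2 _ h1
  show (⁅K, K⁆).map π = H
  rw [Subgroup.map_commutator, hK.1, hH]

/-- an `r`-subgroup lifts isomorphically, `r` odd -/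
theorem exists_lift_pgroup [Finite E] (π : E →* T) (hπ : Function.Surjective π) (hz : ∀ z ∈ π.ker, z * z = 1) {r : ℕ}
    (hr : r.Prime) (hr2 : r ≠ 2) {P : Subgroup T} (hP : IsPGroup r P) :
    ∃ P' : Subgroup E, IsPGroup r P' ∧ (∀ a ∈ P', π a ∈ P) ∧ (∀ a ∈ P', π a = 1 → a = 1) ∧
      Nat.card P' = Nat.card P := by
  have := Fact.mk hr
  have hTfin : Finite T := Finite.of_surjective π hπ
  obtain ⟨R⟩ : Nonempty (Sylow r (P.comap π)) := inferInstance
  let P' : Subgroup E := (R : Subgroup (P.comap π)).map (P.comap π).subtype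
  have hP' : IsPGroup r P' := R.isPGroup'.map _
  have hle : P' ≤ P.comap π := Subgroup.map_subtype_le _
  have hinj : ∀ a ∈ P', π a = 1 → a = 1 := by
    intro a ha h1
    obtain ⟨k, hk⟩ := hP' ⟨a, ha⟩
    have hk' : a ^ r ^ k = 1 := by simpa using congrArg Subtype.val hk
    obtain ⟨j, hj⟩ : Odd (r ^ k) := (hr.odd_of_ne_two hr2).pow
    rw [hj, pow_succ, pow_mul, pow_two, hz a h1, one_pow, one_mul] at hk'
    exact hk'
  refine ⟨P', hP', fun a ha => hle ha, hinj, ?_⟩
  apply le_antisymm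
  · refine Nat.card_le_card_of_injective (fun a : P' => (⟨π a, hle a.2⟩ : P)) ?_
    intro a b hab
    have h1 : π a = π b := congrArg Subtype.val hab
    have h2 : ((a : E)⁻¹ * b) = 1 := hinj _ (P'.mul_mem (P'.inv_mem a.2) b.2) (by
      rw [map_mul, map_inv, h1, inv_mul_cancel])
    exact Subtype.ext (inv_mul_eq_one.1 h2)
  · -- the Sylow subgroup has order at least `|P|`
    obtain ⟨n, hn⟩ := hP.exists_card_eq
    have h1 : Nat.card P ∣ Nat.card (P.comap π) := by
      have h2 : (P.comap π).map π = P := Subgroup.map_comap_eq_self_of_surjective hπ P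
      have h3 := Subgroup.card_map_dvd (P.comap π) π
      rwa [h2] at h3
    rw [hn] at h1 ⊢
    have h2 := R.pow_dvd_card_of_pow_dvd_card h1
    have h4 : Nat.card P' = Nat.card R :=
      Subgroup.card_map_of_injective (P.comap π).subtype_injective
    rw [h4]
    exact Nat.le_of_dvd Nat.card_pos h2

end lift

section elem

open Module Cfsg.Agent.H884.El
open Cfsg.Agent.H951 (fx cm Inv)

universe u v

variable {F : Type u} [Field F] [Fintype F] {V : Type v} [AddCommGroup V] [Module F V] [FiniteDimensional F V]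
  {r : ℕ}

theorem card_le_of_cyclic {Γ : Type*} [Group Γ] [Finite Γ] (hexp : ∀ a : Γ, a ^ r = 1) (hr : 0 < r) (h : IsCyclic Γ) :
    Nat.card Γ ≤ r := by
  obtain ⟨g, hg⟩ := h.exists_generator
  rw [← orderOf_eq_card_of_forall_mem_zpowers hg]
  exact Nat.le_of_dvd hr (orderOf_dvd_of_pow_eq_one (hexp g))

/-- exponent `r`, faithful in dimension less than 8 -/
theorem card_le_of_lt (hr : PP (Nat.card F) 4 r) (hV : finrank F V < 8) {Γ : Type*} [Group Γ] [Finite Γ]
    (hexp : ∀ a : Γ, a ^ r = 1) (ρ : Γ →* Module.End F V) (hρ : Function.Injective ρ) : Nat.card Γ ≤ r := by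
  have := Fact.mk hr.prime
  have hfV : Finite V := Module.finite_of_finite F
  apply card_le_of_cyclic hexp hr.prime.pos
  refine H200.LinFix.isCyclic_of (p := r) (d := 4) (fun g => ⟨1, by rw [pow_one]; exact hexp g⟩) ρ hρ
    (fun m hm => (hr.dvd_iff Nat.card_pos m).1 hm) (PP.ne0 hr (by norm_num)) (by omega)

/-- **elementary abelian `r`-groups in dimension 8 have rank at most 2.** -/
theorem card_le_of_elem (hr : PP (Nat.card F) 4 r) (hV : finrank F V = 8) {A : Type*} [Group A] [Finite A]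
    (hcomm : ∀ a b : A, a * b = b * a) (hexp : ∀ a : A, a ^ r = 1) (ρ : A →* Module.End F V)
    (hρ : Function.Injective ρ) : Nat.card A ≤ r ^ 2 := by
  classical
  have := Fact.mk hr.prime
  have hrp := hr.prime.pos
  by_contra hcon
  push Not at hcon
  have hA : IsPGroup r A := fun g => ⟨1, by rw [pow_one]; exact hexp g⟩
  have hnc : ¬ IsCyclic (⊤ : Subgroup A) := by
    intro h
    have h1 : Nat.card (⊤ : Subgroup A) ≤ r :=
      card_le_of_cyclic (fun a => Subtype.ext (hexp a)) hrp h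
    rw [Subgroup.card_top] at h1
    have h2 : r ^ 1 ≤ r ^ 2 := Nat.pow_le_pow_right hrp (by norm_num)
    rw [pow_one] at h2
    omega
  obtain ⟨a, b, -, -, -, hap, -, ha1, v, hav, hbv⟩ := H501.RealGen.nonc ρ hρ
    (by have := hr.lt (by norm_num); omega) (hr.not_dvd (by norm_num)) (hA.to_subgroup ⊤) hnc
  have hv0 : v ≠ 0 := by
    rintro rfl
    exact hbv (map_zero _)
  have hone : ∀ v, ρ 1 v = v := fun v => by rw [map_one]; rfl
  have hmul : ∀ a b v, ρ (a * b) v = ρ a (ρ b v) := fun a b v => by rw [map_mul]; rfl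
  have hx : Iso (0 : QuadraticForm F V) (ρ a) r :=
    Iso.mk' hr (by norm_num) (by rw [← map_pow, hap, map_one]) (fun v => rfl)
  have hadd := hx.finrank_add
  have hdvd := hx.dvd_cm hr
  have hc0 : finrank F (cm (ρ a)) ≠ 0 := fun h =>
    cm_ne_bot (x := ρ a) (fun h1 => ha1 (hρ (by rw [h1, map_one]))) (Submodule.finrank_eq_zero.1 h)
  have hf0 : finrank F (fx (ρ a)) ≠ 0 := by
    intro h
    have h1 : v ∈ fx (ρ a) := H951.mem_fx.2 hav
    rw [Submodule.finrank_eq_zero.1 h] at h1
    exact hv0 ((Submodule.mem_bot F).1 h1)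
  have hcomm' : ∀ c v, ρ c (ρ a v) = ρ a (ρ c v) := fun c v => by rw [← hmul, hcomm, hmul]
  have hinv : ∀ c, ∀ v ∈ fx (ρ a), ρ c v ∈ fx (ρ a) := by
    intro c v hv
    rw [H951.mem_fx] at hv ⊢
    rw [← hcomm', hv]
  have hinv' : ∀ c, ∀ v ∈ cm (ρ a), ρ c v ∈ cm (ρ a) := by
    intro c v hv
    obtain ⟨w, rfl⟩ := H951.mem_cm.1 hv
    exact H951.mem_cm.2 ⟨ρ c w, by rw [map_sub, hcomm']⟩
  let ρ0 : A →* Module.End F (fx (ρ a)) :=
    { toFun := fun g => (ρ g).restrict (hinv g)
      map_one' := by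
        ext v
        exact hone v
      map_mul' := fun g h => by
        ext v
        exact hmul g h v }
  let ρ1 : A →* Module.End F (cm (ρ a)) :=
    { toFun := fun g => (ρ g).restrict (hinv' g)
      map_one' := by
        ext v
        exact hone v
      map_mul' := fun g h => by
        ext v
        exact hmul g h v }
  let τ := ρ0.toHomUnits
  have hτfin : Finite τ.range := Finite.of_surjective _ τ.rangeRestrict_surjective
  have h1 : Nat.card τ.range ≤ r := by
    refine card_le_of_lt (V := fx (ρ a)) hr (by omega) ?_ ((Units.coeHom _).comp τ.range.subtype) ?_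
    · rintro ⟨_, c, rfl⟩
      apply Subtype.ext
      show τ c ^ r = 1
      rw [← map_pow, hexp, map_one]
    · intro c d hcd
      exact Subtype.ext (Units.ext hcd)
  have h2 : Nat.card τ.ker ≤ r := by
    refine card_le_of_lt (V := cm (ρ a)) hr (by omega) (fun c => Subtype.ext (hexp c)) (ρ1.comp τ.ker.subtype) ?_
    rw [injective_iff_map_eq_one]
    rintro ⟨c, hc⟩ hc1
    apply Subtype.ext
    apply hρ
    show ρ c = ρ 1
    rw [map_one]
    apply LinearMap.ext
    intro w
    show ρ c w = w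
    have h5 : w ∈ fx (ρ a) ⊔ cm (ρ a) := by
      rw [(H951.isCompl_fx_cm hx.ne0 hx.pow).sup_eq_top]
      trivial
    obtain ⟨v1, hv1, v2, hv2, rfl⟩ := Submodule.mem_sup.1 h5
    rw [map_add]
    congr 1
    · have h6 : τ c = 1 := hc
      have h7 := congrArg (fun z : (Module.End F (fx (ρ a)))ˣ => (((z : Module.End F (fx (ρ a))) ⟨v1, hv1⟩ :
        fx (ρ a)) : V)) h6
      exact h7
    · have h7 := congrArg (fun z : Module.End F (cm (ρ a)) => ((z ⟨v2, hv2⟩ : cm (ρ a)) : V)) hc1
      exact h7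
  have h3 : Nat.card A = Nat.card τ.ker * Nat.card τ.range := by
    rw [← Subgroup.card_mul_index τ.ker, Subgroup.index_ker]
  rw [h3, pow_two] at hcon
  exact absurd (Nat.mul_le_mul h2 h1) (by omega)

end elem

end Cfsg.Agent.H953.O8
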