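import Cfsg.Agent.H953.Cyc.O8f
import Cfsg.Agent.H906.SL2Real
import Cfsg.Agent.H716.S5.Own
import Cfsg.Agent.H946.DK.Lin

/-!
# Elements of order `r`, `ord_r(q) = 4`, with a 4-dimensional commutator space are real in `Ω₄⁻(q)` (helper953, S3679)

* `real_minus` : elements of order `r` of `O₄⁻(q)` are inverted by elements of `Ω₄⁻(q)`;
* `real_type0` : an element `w` of order `r` with `dim [V, w] = 4` is inverted by an element of `Ω(V)` trivial on `C_V(w)`.
-/

set_option autoImplicit false
set_option linter.unusedSectionVars false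

namespace Cfsg.Agent.H953.O8

open Subgroup Module QuadraticMap Cfsg.Agent.LieClassical.OrthCore Cfsg.Agent.H955 Cfsg.Agent.H954.TSing
  Cfsg.Agent.H884.El Cfsg.Agent.H899.Pt
open Cfsg.Agent.ClassicalGeometry.Reflection Cfsg.Agent.H175.OmegaAdjust
open Cfsg.Agent.H501.RowOmega (mt mt_mul mt_one mt_inj isom_polar)
open Cfsg.Agent.H951 (fx cm Inv)
open scoped MatrixGroups Matrix

universe u

variable {F : Type u} [Field F] [Fintype F] {r n : ℕ}

/-- operators commuting with a nontrivial operator of order `r` of a 4-dimensional space commute -/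
theorem commute_four {V : Type*} [AddCommGroup V] [Module F V] [FiniteDimensional F V] (hr : RD F r n)
    (hV : finrank F V = n) {z a b : Module.End F V} (hz : z ^ r = 1) (hz1 : z ≠ 1) (ha : Commute a z)
    (hb : Commute b z) : Commute a b := by
  have hn := hr.pos
  have hf : (⊤ : Submodule F V) ⊓ fx z = ⊥ := by
    refine (hr.fx_or hz H951.inv_top (by rw [finrank_top, hV])).resolve_left fun h => hz1 ?_
    apply LinearMap.ext
    intro v
    exact H951.mem_fx.1 (h Submodule.mem_top)
  rw [top_inf_eq] at hf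
  have hnt : Nontrivial V := by
    rw [← Module.finrank_pos_iff (R := F)]
    omega
  obtain ⟨v, hv⟩ := exists_ne (0 : V)
  refine H946.DK.commute_of_cyclic (x := z) (v := v) ?_ ha hb
  intro w
  rw [← H946.DK.mem_cyc]
  have h1 : n ≤ finrank F (H946.DK.cyc z v) := by
    refine hr.le_finrank hz (H946.DK.inv_cyc v) (by rw [hf, inf_bot_eq]) ?_
    intro h
    have := H946.DK.self_mem_cyc (x := z) v
    rw [h, Submodule.mem_bot] at this
    exact hv this
  have h2 : H946.DK.cyc z v = ⊤ := Submodule.eq_top_of_finrank_eq (le_antisymm (Submodule.finrank_le _) (by omega))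
  rw [h2]
  trivial

/-- an element of odd order conjugate to its inverse lies in the commutator subgroup -/
theorem mem_commutator_of_conj {G : Type*} [Group G] {w s : G} (hr : Odd r) (hw : w ^ r = 1)
    (h : s * w * s⁻¹ = w⁻¹) : w ∈ commutator G := by
  have h1 : s * w * s⁻¹ * w⁻¹ ∈ commutator G := by
    have h3 := Subgroup.commutator_mem_commutator (Subgroup.mem_top s) (Subgroup.mem_top w)
    rw [_root_.commutator_def]
    exact h3
  rw [h] at h1
  obtain ⟨j, hj⟩ := hr
  have h2 : w = (w⁻¹ * w⁻¹) ^ j := by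
    rw [← pow_two, ← pow_mul, inv_pow, eq_inv_iff_mul_eq_one, ← pow_succ', ← hj, hw]
  rw [h2]
  exact pow_mem h1 j

/-- reality from the reality of the central quotient -/
theorem real_of_quotient {G : Type*} [Group G] {K : Type*} [Field K] [Fintype K] {p : ℕ} [Fact p.Prime]
    [CharP K p] (hK : 3 < Fintype.card K)
    (e : (G ⧸ center G) ≃* Matrix.ProjectiveSpecialLinearGroup (Fin 2) K) (hr : r.Prime) (hrp : r ≠ p)
    (hcomm : ∀ z : G, z ^ r = 1 → z ≠ 1 → (∀ g, g * z = z * g) → ∀ g h : G, g * h = h * g)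
    {w : G} (hw : w ^ r = 1) : ∃ t, t * w * t⁻¹ = w⁻¹ := by
  have hp : p.Prime := Fact.out
  have hwb : (w : G ⧸ center G) ^ r = 1 := by
    rw [← QuotientGroup.mk_pow, hw]
    rfl
  obtain ⟨tb, htb⟩ : ∃ tb, tb * (w : G ⧸ center G) * tb⁻¹ = (w : G ⧸ center G)⁻¹ := by
    rcases H906.PSL2_real_or_unip p (e w) with ⟨y, hy⟩ | hy
    · refine ⟨e.symm y, ?_⟩
      apply e.injective
      rw [map_mul, map_mul, map_inv, map_inv, e.apply_symm_apply]
      exact hy
    · have h1 : (w : G ⧸ center G) = 1 := by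
        have h2 : (w : G ⧸ center G) ^ p = 1 := e.injective (by rw [map_pow, hy, map_one])
        have h3 : orderOf (w : G ⧸ center G) ∣ Nat.gcd p r := Nat.dvd_gcd (orderOf_dvd_of_pow_eq_one h2)
          (orderOf_dvd_of_pow_eq_one hwb)
        rw [(Nat.coprime_primes hp hr).2 (Ne.symm hrp), Nat.dvd_one, orderOf_eq_one_iff] at h3
        exact h3
      exact ⟨1, by rw [h1]; group⟩
  obtain ⟨t, rfl⟩ := QuotientGroup.mk_surjective tb
  obtain ⟨z, hz⟩ : ∃ z, z = t * w * t⁻¹ * w := ⟨_, rfl⟩
  have hzc : z ∈ center G := by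
    rw [← QuotientGroup.eq_one_iff, hz, QuotientGroup.mk_mul, QuotientGroup.mk_mul, QuotientGroup.mk_mul,
      QuotientGroup.mk_inv, htb, inv_mul_cancel]
  have hzw : t * w * t⁻¹ = z * w⁻¹ := by rw [hz]; group
  have hzr : z ^ r = 1 := by
    have h1 : (t * w * t⁻¹) ^ r = 1 := by rw [conj_pow, hw, mul_one, mul_inv_cancel]
    have h2 : Commute z w⁻¹ := (mem_center_iff.1 hzc w⁻¹).symm
    rw [hzw, h2.mul_pow, inv_pow, hw, inv_one, mul_one] at h1
    exact h1
  have hz1 : z = 1 := by
    by_contra hz1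
    have hc := hcomm z hzr hz1 (mem_center_iff.1 hzc)
    apply H716.S5.not_comm_psl_two hK
    refine ⟨⟨fun x y => e.symm.injective ?_⟩⟩
    obtain ⟨g, hg⟩ := QuotientGroup.mk_surjective (e.symm x)
    obtain ⟨h, hh⟩ := QuotientGroup.mk_surjective (e.symm y)
    rw [map_mul, map_mul, ← hg, ← hh, ← QuotientGroup.mk_mul, ← QuotientGroup.mk_mul, hc]
  refine ⟨t, ?_⟩
  rw [hz1, one_mul] at hzw
  exact hzw

/-- commutativity from a nontrivial central element of order `r` -/
theorem comm_of_central {V : Type*} [AddCommGroup V] [Module F V] [FiniteDimensional F V] (hr : RD F r n)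
    (hV : finrank F V = n) {G : Type*} [Group G] (φ : G →* Module.End F V) (hφ : Function.Injective φ)
    (z : G) (hz : z ^ r = 1) (hz1 : z ≠ 1) (hc : ∀ g, g * z = z * g) (g h : G) : g * h = h * g := by
  apply hφ
  rw [map_mul, map_mul]
  refine commute_four hr hV (z := φ z) (by rw [← map_pow, hz, map_one])
    (fun h => hz1 (hφ (by rw [h, map_one]))) ?_ ?_
  · show φ g * φ z = φ z * φ g
    rw [← map_mul, hc, map_mul]
  · show φ h * φ z = φ z * φ h
    rw [← map_mul, hc, map_mul]

/-- **reality in `Ω₄⁻(q)`** -/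
theorem real_minus (hr : PP (Nat.card F) 4 r) {a b : F}
    (hab : ∀ z₁ z₂ : F, z₁ ^ 2 + a * z₁ * z₂ + b * z₂ ^ 2 = 0 → z₁ = 0 ∧ z₂ = 0)
    {w : Cfsg.isometryGroup F ⇑(LieClassical.QuadForms.minusForm 1 F a b)} (hw : w ^ r = 1) :
    ∃ t ∈ Cfsg.Omega F ⇑(LieClassical.QuadForms.minusForm 1 F a b), t * w * t⁻¹ = w⁻¹ := by
  have hrd := rd_of_pp hr (by norm_num)
  have hQ : Nondeg (LieClassical.QuadForms.minusForm 1 F a b) := nondeg_minus 1 hab
  have hodd : Odd r := hr.odd (by norm_num)
  have hr2 : r ≠ 2 := by have := hr.lt (by norm_num); omega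
  obtain ⟨s, hs⟩ := isConj_iff.1 (H501.RowOmega.conj_inv (LieClassical.QuadForms.minusForm 1 F a b)
    (nondegenerate_of_nondeg hQ) hr.prime hr2 (hr.not_dvd (by norm_num)) hw)
  have hwO := mem_commutator_of_conj hodd hw hs
  obtain ⟨p, hchar⟩ := CharP.exists F
  obtain ⟨m, hp, hm⟩ := FiniteField.card F p
  have hpf := Fact.mk hp
  have hm1 : 1 ≤ (m : ℕ) := m.2
  have hrp : r ≠ p := by
    rintro rfl
    exact hr.not_dvd (by norm_num) (by rw [Nat.card_eq_fintype_card, hm]; exact dvd_pow_self r m.ne_zero)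
  have hr0 : Fact r.Prime := ⟨hr.prime⟩
  -- the field
  let K := GaloisField p (2 * m)
  have hKfin : Finite K := Nat.finite_of_card_ne_zero (by
    rw [GaloisField.card p (2 * m) (by omega)]
    exact pow_ne_zero _ hp.ne_zero)
  let _ : Fintype K := Fintype.ofFinite K
  have hK : Fintype.card K = (Fintype.card F) ^ 2 := by
    rw [← Nat.card_eq_fintype_card, GaloisField.card p (2 * m) (by omega), hm, ← pow_mul, mul_comm]
  have hq : 1 < Fintype.card F := Fintype.one_lt_card
  have hK3 : 3 < Fintype.card K := by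
    rw [hK]
    have : 2 ^ 2 ≤ Fintype.card F ^ 2 := Nat.pow_le_pow_left hq 2
    omega
  obtain ⟨e⟩ := S0300.result rfl hK a b hab
  rw [← LieClassical.QuadForms.coe_minusForm] at e
  have hw₁ : (⟨w, hwO⟩ : Cfsg.Omega F ⇑(LieClassical.QuadForms.minusForm 1 F a b)) ^ r = 1 := Subtype.ext hw
  obtain ⟨t, ht⟩ := real_of_quotient hK3 (G := Cfsg.Omega F ⇑(LieClassical.QuadForms.minusForm 1 F a b)) e
    hr.prime hrp (comm_of_central hrd (H955.finrank_minus 1)
      ((R (LieClassical.QuadForms.minusForm 1 F a b)).comp (Subgroup.subtype _))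
      (R_injective.comp Subtype.val_injective)) hw₁
  exact ⟨t, t.2, congrArg Subtype.val ht⟩

end Cfsg.Agent.H953.O8
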