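import Cfsg.Agent.H953.Cyc.O8h
import Cfsg.Agent.H884.CgLin

/-!
# Conjugacy of two commuting elements without fixed vectors of order `r`, `ord_r(q) = 4`, in `Ω₈⁺(q)` (helper953, S3679)

`conj_type8` : `x`, `y` commuting of order `r` without fixed vectors, `y` inverted by an isometry commuting with `x`:
`x ^ t ∈ ⟨y⟩` for some `t ∈ Ω`.
-/

set_option autoImplicit false
set_option linter.unusedSectionVars false

namespace Cfsg.Agent.H953.O8

open Subgroup Module QuadraticMap Cfsg.Agent.LieClassical.OrthCore Cfsg.Agent.H955 Cfsg.Agent.H954.TSing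
  Cfsg.Agent.H884.El Cfsg.Agent.H899.Pt
open Cfsg.Agent.ClassicalGeometry.Reflection Cfsg.Agent.H175.OmegaAdjust
open Cfsg.Agent.H951 (fx cm Inv mem_fx)
open scoped MatrixGroups Matrix

universe u

variable {F : Type u} [Field F] [Fintype F] {ι : Type} [Fintype ι] [DecidableEq ι] {Q : QuadraticForm F (ι → F)}
  {r n : ℕ}

/-- the commutator space of a nontrivial element with a fixed vector -/
theorem finrank_cm_four (hr : PP (Nat.card F) 4 r) (hι : Fintype.card ι = 8) {z : Cfsg.isometryGroup F ⇑Q}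
    (hz : z ^ r = 1) (hz1 : z ≠ 1) {v : ι → F} (hv0 : v ≠ 0) (hv : R Q z v = v) : finrank F (cm (R Q z)) = 4 := by
  have hrd := rd_of_pp hr (by norm_num)
  have h1 := hrd.dvd_cm (R_pow hz)
  have h2 := hrd.le_cm (R_pow hz) (R_ne_one hz1)
  have h3 := H951.finrank_fx_add_cm hrd.ne0 (R_pow hz)
  rw [Module.finrank_fintype_fun_eq_card, hι] at h3
  have h4 : finrank F (fx (R Q z)) ≠ 0 := by
    intro h
    have h5 := Submodule.finrank_eq_zero.1 h
    have h6 : v ∈ fx (R Q z) := mem_fx.2 hv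
    rw [h5, Submodule.mem_bot] at h6
    exact hv0 h6
  omega

theorem fx_le_cm (hr : PP (Nat.card F) 4 r) {x z z' : Cfsg.isometryGroup F ⇑Q} (hz : z ^ r = 1)
    (hxr : x ^ r = 1) (hfx : fx (R Q x) = ⊥) (hzz : z * z' = z' * z) (hx : z * z' = x * x) :
    fx (R Q z') ≤ cm (R Q z) := by
  have hrd := rd_of_pp hr (by norm_num)
  have hI : Inv (R Q z) (fx (R Q z')) := by
    intro v hv
    rw [mem_fx] at hv ⊢
    rw [← R_mul, ← hzz, R_mul, hv]
  have h1 : fx (R Q z') ⊓ fx (R Q z) = ⊥ := by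
    rw [eq_bot_iff, ← hfx]
    rintro v ⟨hv, hv'⟩
    rw [SetLike.mem_coe, mem_fx] at hv hv'
    have h2 : R Q (x * x) v = v := by rw [← hx, R_mul, hv, hv']
    obtain ⟨j, hj⟩ := hr.odd (by norm_num)
    have h3 : ∀ k : ℕ, R Q ((x * x) ^ k) v = v := by
      intro k
      induction k with
      | zero => rw [pow_zero, R_one]
      | succ k ih => rw [pow_succ, R_mul, h2, ih]
    have h4 := h3 (j + 1)
    rw [← pow_two, ← pow_mul, show 2 * (j + 1) = r + 1 by omega, pow_succ, hxr, one_mul] at h4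
    exact mem_fx.2 h4
  have h2 := H951.inf_fx_sup_inf_cm hrd.ne0 (R_pow hz) hI
  rw [h1, bot_sup_eq] at h2
  exact inf_eq_left.1 h2

/-- **conjugacy of commuting elements without fixed vectors** -/
theorem conj_type8 (hr : PP (Nat.card F) 4 r) (hQ : Nondeg Q) (hι : Fintype.card ι = 8)
    {x y s : Cfsg.isometryGroup F ⇑Q} (hx : x ^ r = 1) (hy : y ^ r = 1) (hxy : x * y = y * x)
    (hfx : fx (R Q x) = ⊥) (hfy : fx (R Q y) = ⊥) (hsx : s * x = x * s) (hsy : s * y * s⁻¹ = y⁻¹)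
    (hne : ∀ i : ℕ, x * y ^ i ≠ 1) : ∃ t ∈ Cfsg.Omega F ⇑Q, t * x * t⁻¹ ∈ zpowers y := by
  have hrd := rd_of_pp hr (by norm_num)
  have hnt : (⊤ : Submodule F (ι → F)) ≠ ⊥ := by
    intro h
    have h1 : finrank F (ι → F) = 0 := by rw [← finrank_top, h, finrank_bot]
    rw [Module.finrank_fintype_fun_eq_card, hι] at h1
    omega
  have hc : Commute (R Q x) (R Q y) := by
    show R Q x * R Q y = R Q y * R Q x
    rw [← map_mul, hxy, map_mul]
  obtain ⟨i, -, hi⟩ := H884.Cg.exists_fixed hr.prime hrd.ne0 (R_pow hx) (R_pow hy) hc H951.inv_top H951.inv_top hnt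
    (by rw [hfy, inf_bot_eq])
  rw [← map_pow, ← map_mul, top_inf_eq] at hi
  obtain ⟨v, hv, hv0⟩ := (Submodule.ne_bot_iff _).1 hi
  rw [mem_fx] at hv
  have hyi : Commute x (y ^ i) := (show Commute x y from hxy).pow_right i
  have hyi' : Commute x ((y ^ i)⁻¹) := hyi.inv_right
  obtain ⟨z, hz⟩ : ∃ z, z = x * y ^ i := ⟨_, rfl⟩
  obtain ⟨z', hz'⟩ : ∃ z', z' = x * (y ^ i)⁻¹ := ⟨_, rfl⟩
  have hyr : (y ^ i) ^ r = 1 := by rw [← pow_mul, mul_comm, pow_mul, hy, one_pow]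
  have hzr : z ^ r = 1 := by rw [hz, hyi.mul_pow, hx, hyr, one_mul]
  have hz'r : z' ^ r = 1 := by rw [hz', hyi'.mul_pow, hx, inv_pow, hyr, inv_one, one_mul]
  have hconj : s * z * s⁻¹ = z' := by
    have h1 : s * y ^ i * s⁻¹ = (y ^ i)⁻¹ := by rw [← conj_pow, hsy, inv_pow]
    calc s * z * s⁻¹ = (s * x) * (y ^ i) * s⁻¹ := by rw [hz]; group
      _ = x * (s * y ^ i * s⁻¹) := by rw [hsx]; group
      _ = z' := by rw [h1, hz']
  have hzz : z * z' = x * x := by
    rw [hz, hz']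
    calc x * y ^ i * (x * (y ^ i)⁻¹) = x * (y ^ i * x) * (y ^ i)⁻¹ := by group
      _ = x * (x * y ^ i) * (y ^ i)⁻¹ := by rw [hyi.eq]
      _ = x * x := by group
  have hzz2 : z' * z = x * x := by
    rw [hz, hz']
    calc x * (y ^ i)⁻¹ * (x * y ^ i) = x * ((y ^ i)⁻¹ * x) * y ^ i := by group
      _ = x * (x * (y ^ i)⁻¹) * y ^ i := by rw [hyi'.eq]
      _ = x * x := by group
  have hz1 : z ≠ 1 := by rw [hz]; exact hne i
  rw [← hz] at hv
  have hc1 : finrank F (cm (R Q z)) = 4 := finrank_cm_four hr hι hzr hz1 hv0 hv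
  have hc2 : finrank F (cm (R Q z')) = 4 := by
    refine finrank_cm_four hr hι hz'r ?_ (v := R Q s v) ?_ ?_
    · intro h
      rw [← hconj, mul_inv_eq_one, mul_eq_left] at h
      exact hz1 h
    · intro h
      apply hv0
      rw [← R_inv_apply s v, h, map_zero]
    · rw [← hconj, R_mul, R_mul, R_inv_apply, hv]
  have hf1 : fx (R Q z') ≤ cm (R Q z) := fx_le_cm hr hzr hx hfx (hzz.trans hzz2.symm) hzz
  have hf2 : fx (R Q z) ≤ cm (R Q z') := fx_le_cm hr hz'r hx hfx (hzz2.trans hzz.symm) hzz2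
  have hd1 := H951.finrank_fx_add_cm hrd.ne0 (R_pow hzr)
  have hd2 := H951.finrank_fx_add_cm hrd.ne0 (R_pow hz'r)
  rw [Module.finrank_fintype_fun_eq_card, hι] at hd1 hd2
  have he1 : fx (R Q z') = cm (R Q z) := Submodule.eq_of_le_of_finrank_eq hf1 (by omega)
  have he2 : fx (R Q z) = cm (R Q z') := Submodule.eq_of_le_of_finrank_eq hf2 (by omega)
  obtain ⟨t, ht, htt, htz⟩ := real_type0 hr hQ hz'r hc2
  have hperp : cm (R Q z') = perp Q (fx (R Q z')) := by
    rw [← perp_cm hQ (R_iso z') hrd.ne0 (R_pow hz'r), perp_perp hQ]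
  have hIt : Inv (R Q t) (cm (R Q z')) := by rw [hperp]; exact inv_perp htt
  have htc : t * z = z * t := by
    apply R_injective
    apply LinearMap.ext
    intro w
    have h5 : w ∈ fx (R Q z) ⊔ cm (R Q z) := by
      rw [(H951.isCompl_fx_cm hrd.ne0 (R_pow hzr)).sup_eq_top]
      trivial
    obtain ⟨a, ha, b, hb, rfl⟩ := Submodule.mem_sup.1 h5
    have h6 : R Q t a ∈ fx (R Q z) := by
      rw [he2] at ha ⊢
      exact hIt a ha
    have h7 : R Q z b ∈ fx (R Q z') := by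
      rw [he1]
      exact H951.inv_cm b hb
    have h8 : b ∈ fx (R Q z') := by rw [he1]; exact hb
    rw [map_add, map_add, R_mul, R_mul, R_mul, R_mul, mem_fx.1 ha, mem_fx.1 h6, htt b h8, htt _ h7]
  have hx2 : t * (x * x) * t⁻¹ = (y ^ i) * (y ^ i) := by
    have h1 : z'⁻¹ = y ^ i * x⁻¹ := by rw [hz']; group
    calc t * (x * x) * t⁻¹ = (t * z) * z' * t⁻¹ := by rw [← hzz]; group
      _ = z * (t * z' * t⁻¹) := by rw [htc]; group
      _ = z * z'⁻¹ := by rw [htz]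
      _ = x * (y ^ i * y ^ i) * x⁻¹ := by rw [h1, hz]; group
      _ = (y ^ i) * (y ^ i) := by rw [(hyi.mul_right hyi).eq]; group
  refine ⟨t, ht, ?_⟩
  obtain ⟨j, hj⟩ := hr.odd (by norm_num)
  have h1 : x = (x * x) ^ (j + 1) := by
    rw [← pow_two, ← pow_mul, show 2 * (j + 1) = r + 1 by omega, pow_succ, hx, one_mul]
  rw [h1, ← conj_pow, hx2]
  exact pow_mem (mul_mem (pow_mem (mem_zpowers y) i) (pow_mem (mem_zpowers y) i)) _

end Cfsg.Agent.H953.O8
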