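import Cfsg.Agent.H953.Cyc.O8k
import Cfsg.Agent.H953.Cyc.O8e
import Cfsg.Agent.H946.DK.Grp

/-!
# The intersection of the two factors of a factorization of `PΩ₈⁺(q)` (helper953, S3679)

* `noSq_of_cyc` : groups with cyclic `r`-subgroups have no `C_r × C_r`;
* `no_fst`, `no_snd` : `M` contains no element of order `r` of the factors of `A = S × S`;
* `dk_inter` : the order of `A ∩ M`.
-/

set_option autoImplicit false

namespace Cfsg.Agent.H953.O8

open Subgroup Cfsg.Agent.H884.El Cfsg.Agent.H899.Pt Cfsg.Agent.H436 Cfsg.Agent.H899.CG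

universe u

/-- groups with cyclic `r`-subgroups -/
theorem noSq_of_cyc {R : Type*} [Group R] [Finite R] {r : ℕ} (h : H264.FKS.Cyc r R) (hr : r.Prime) {x y : R}
    (hx : orderOf x = r) (hy : orderOf y = r) (hxy : x * y = y * x) : y ∈ zpowers x := by
  have hcomm : ∀ a ∈ ({x, y} : Set R), ∀ b ∈ ({x, y} : Set R), a * b = b * a := by
    rintro a (rfl | rfl) b (rfl | rfl)
    · rfl
    · exact hxy
    · exact hxy.symm
    · rfl
  have hmc := Subgroup.isMulCommutative_closure hcomm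
  have hpow : ∀ g : closure ({x, y} : Set R), g ^ r = 1 := by
    rintro ⟨g, hg⟩
    induction hg using Subgroup.closure_induction with
    | mem g hg =>
      rcases hg with rfl | rfl
      · exact Subtype.ext (by show g ^ r = 1; rw [← hx, pow_orderOf_eq_one])
      · exact Subtype.ext (by show g ^ r = 1; rw [← hy, pow_orderOf_eq_one])
    | one => exact one_pow r
    | mul a b ha hb h1 h2 =>
      have hab : Commute (⟨a, ha⟩ : closure ({x, y} : Set R)) ⟨b, hb⟩ := hmc.is_comm.comm _ _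
      have h3 : ((⟨a, ha⟩ : closure ({x, y} : Set R)) * ⟨b, hb⟩) ^ r = 1 := by rw [hab.mul_pow, h1, h2, one_mul]
      exact h3
    | inv a ha h1 =>
      have h3 : ((⟨a, ha⟩ : closure ({x, y} : Set R))⁻¹) ^ r = 1 := by rw [inv_pow, h1, inv_one]
      exact h3
  have hP : IsPGroup r (closure ({x, y} : Set R)) := fun g => ⟨1, by rw [pow_one]; exact hpow g⟩
  have hc := h _ hP
  have hcard : Nat.card (closure ({x, y} : Set R)) ∣ r := by
    rw [← IsCyclic.exponent_eq_card]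
    exact Monoid.exponent_dvd_of_forall_pow_eq_one hpow
  have hxP : x ∈ closure ({x, y} : Set R) := subset_closure (Or.inl rfl)
  have hyP : y ∈ closure ({x, y} : Set R) := subset_closure (Or.inr rfl)
  have heq : zpowers x = closure ({x, y} : Set R) := by
    refine Subgroup.eq_of_le_of_card_ge (zpowers_le.2 hxP) ?_
    rw [Nat.card_zpowers, hx]
    exact Nat.le_of_dvd hr.pos hcard
  rw [heq]
  exact hyP

theorem noSq_of_cyc' {T : Type*} [Group T] [Finite T] {M : Subgroup T} {r : ℕ} (h : H264.FKS.Cyc r M)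
    (hr : r.Prime) : NoSq M r := by
  intro x hx y hy hxo hyo hxy
  have h1 := noSq_of_cyc h hr (x := ⟨x, hx⟩) (y := ⟨y, hy⟩) (by rw [← Subgroup.orderOf_coe]; exact hxo)
    (by rw [← Subgroup.orderOf_coe]; exact hyo) (Subtype.ext hxy)
  obtain ⟨k, hk⟩ := mem_zpowers_iff.1 h1
  exact mem_zpowers_iff.2 ⟨k, congrArg Subtype.val hk⟩

variable {F : Type u} [Field F] [Fintype F] {p r f : ℕ} {S : Type*} [Group S] [Finite S]
  {A M : Subgroup (Cfsg.POmega F (Cfsg.quadFormPlus 4 F))}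

theorem no_fst (hr : PP (Nat.card F) 4 r) (hS : IsSimpleGroup S) (hna : ¬ IsMulCommutative S)
    (ψ : S × S →* Cfsg.POmega F (Cfsg.quadFormPlus 4 F)) (hψ : Function.Injective ψ) (hA : ψ.range = A)
    (hf : ∀ t, ∃ a ∈ A, ∃ m ∈ M, t = a * m) (hM : NoSq M r) {s g : S} (hs : orderOf s = r)
    (hg : g * s * g⁻¹ = s⁻¹) : ψ (s, 1) ∉ M := by
  intro hyM
  have hfP := finite_pomega (F := F)
  obtain ⟨t, ht⟩ := pair_conj hr hS hna ψ hψ hs hg
  have hle : ∀ c, ψ c ∈ A := fun c => hA ▸ ⟨c, rfl⟩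
  have hs1 : s ≠ 1 := by
    rintro rfl
    rw [orderOf_one] at hs
    exact hr.prime.one_lt.ne hs
  have ho1 : orderOf (ψ (s, 1)) = r := by
    rw [orderOf_injective ψ hψ, Prod.orderOf_mk, orderOf_one, Nat.lcm_one_right, hs]
  have ho2 : orderOf (ψ (1, s)) = r := by
    rw [orderOf_injective ψ hψ, Prod.orderOf_mk, orderOf_one, Nat.lcm_one_left, hs]
  have ho3 : orderOf (t * ψ (1, s) * t⁻¹) = r := by
    rw [← MulAut.conj_apply]
    exact (orderOf_injective (MulAut.conj t).toMonoidHom (MulAut.conj t).injective _).trans ho2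
  have heq : zpowers (t * ψ (1, s) * t⁻¹) = zpowers (ψ (s, 1)) := by
    refine Subgroup.eq_of_le_of_card_ge (zpowers_le.2 ht) ?_
    rw [Nat.card_zpowers, Nat.card_zpowers, ho1, ho3]
  have h1 : ψ (s, 1) ∈ zpowers (t * ψ (1, s) * t⁻¹) := by
    rw [heq]
    exact mem_zpowers _
  obtain ⟨k, hk⟩ := mem_zpowers_iff.1 h1
  have h2 : t⁻¹ * ψ (s, 1) * t⁻¹⁻¹ = ψ (1, s ^ k) := by
    rw [← hk, conj_zpow]
    have h3 : ψ (1, s) ^ k = ψ (1, s ^ k) := by
      rw [← map_zpow]
      congr 1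
      exact Prod.ext (one_zpow k) rfl
    rw [h3]
    group
  obtain ⟨a, ha, haz⟩ := gp hr.prime hf hM (hle (s, 1)) hyM ho1 (t := t⁻¹) (by rw [h2]; exact hle _)
  rw [h2] at haz
  obtain ⟨j, hj⟩ := mem_zpowers_iff.1 haz
  rw [← hA] at ha
  obtain ⟨⟨a₁, a₂⟩, rfl⟩ := ha
  rw [← map_zpow, ← map_inv, ← map_mul, ← map_mul] at hj
  have h4 := congrArg Prod.fst (hψ hj)
  have h5 : (1 : S) = a₁ * s * a₁⁻¹ := by simpa using h4
  apply hs1
  have h6 : s = a₁⁻¹ * (a₁ * s * a₁⁻¹) * a₁ := by group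
  rw [h6, ← h5]
  group

theorem no_snd (hr : PP (Nat.card F) 4 r) (hS : IsSimpleGroup S) (hna : ¬ IsMulCommutative S)
    (ψ : S × S →* Cfsg.POmega F (Cfsg.quadFormPlus 4 F)) (hψ : Function.Injective ψ) (hA : ψ.range = A)
    (hf : ∀ t, ∃ a ∈ A, ∃ m ∈ M, t = a * m) (hM : NoSq M r) {s g : S} (hs : orderOf s = r)
    (hg : g * s * g⁻¹ = s⁻¹) : ψ (1, s) ∉ M := by
  refine no_fst (ψ := ψ.comp (MulEquiv.prodComm (M := S) (N := S)).toMonoidHom) hr hS hna
    (hψ.comp (MulEquiv.prodComm (M := S) (N := S)).injective) ?_ hf hM hs hg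
  rw [MonoidHom.range_comp, MonoidHom.range_eq_top.2 (MulEquiv.prodComm (M := S) (N := S)).surjective,
    ← MonoidHom.range_eq_map, hA]

/-- **the order of `A ∩ M`** -/
theorem dk_inter (hr : PP (Nat.card F) 4 r) (hp : p.Prime) (hf1 : 1 ≤ f) (hrP : Prim p (4 * f) r)
    (hS : IsSimpleGroup S) (hna : ¬ IsMulCommutative S)
    (ψ : S × S →* Cfsg.POmega F (Cfsg.quadFormPlus 4 F)) (hψ : Function.Injective ψ) (hA : ψ.range = A)
    (hf : ∀ t, ∃ a ∈ A, ∃ m ∈ M, t = a * m) (hM : NoSq M r) {E : Type} [Field E] [Fintype E]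
    (hE : Fintype.card E = p ^ (2 * f)) (e : S ≃* Matrix.ProjectiveSpecialLinearGroup (Fin 2) E)
    (hrS : r ∣ Nat.card S) (hrD : r ∣ Nat.card (A ⊓ M : Subgroup _)) :
    Nat.card (A ⊓ M : Subgroup _) = Nat.card S ∨
      Nat.card (A ⊓ M : Subgroup _) ∣ (2 * ((p ^ (2 * f) + 1) / Nat.gcd 2 (p ^ (2 * f) - 1))) ^ 2 ∨
      (r = 5 ∧ (Nat.card (A ⊓ M : Subgroup _) ∣ 60 ^ 2 ∨
        Nat.card (A ⊓ M : Subgroup _) ∣ 60 * (2 * ((p ^ (2 * f) + 1) / Nat.gcd 2 (p ^ (2 * f) - 1))))) := by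
  have hpf := Fact.mk hp
  have hrf := Fact.mk hr.prime
  have hfP := finite_pomega (F := F)
  -- reality
  have hreal : ∀ s : S, orderOf s = r → ∃ g, g * s * g⁻¹ = s⁻¹ := by
    intro s hs
    have hchar : CharP E p := by
      obtain ⟨l, hl⟩ := CharP.exists E
      obtain ⟨n, hlp, hn⟩ := FiniteField.card E l
      have h1 : l ∣ p ^ (2 * f) := by
        rw [← hE, hn]
        exact dvd_pow_self l n.2.ne'
      have h2 := (Nat.prime_dvd_prime_iff_eq hlp hp).1 (hlp.dvd_of_dvd_pow h1)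
      rw [← h2]
      exact hl
    rcases H906.PSL2_real_or_unip p (e s) with ⟨y, hy⟩ | hy
    · refine ⟨e.symm y, e.injective ?_⟩
      rw [map_mul, map_mul, map_inv, map_inv, e.apply_symm_apply]
      exact hy
    · exfalso
      have h2 : s ^ p = 1 := e.injective (by rw [map_pow, hy, map_one])
      have h3 := orderOf_dvd_of_pow_eq_one h2
      rw [hs] at h3
      have h4 := (Nat.prime_dvd_prime_iff_eq hr.prime hp).1 h3
      exact hrP.not_dvd (by rw [h4])
  have hinv : ∀ d : (A ⊓ M : Subgroup (Cfsg.POmega F (Cfsg.quadFormPlus 4 F))), ∃ c, ψ c = d := by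
    intro d
    have h1 : (d : Cfsg.POmega F (Cfsg.quadFormPlus 4 F)) ∈ A := d.2.1
    exact hA.symm.le h1
  let π : (A ⊓ M : Subgroup (Cfsg.POmega F (Cfsg.quadFormPlus 4 F))) →* S × S :=
    { toFun := fun d => (hinv d).choose
      map_one' := hψ (by rw [(hinv 1).choose_spec, map_one]; rfl)
      map_mul' := fun a b => hψ (by
        rw [(hinv (a * b)).choose_spec, map_mul, (hinv a).choose_spec, (hinv b).choose_spec]; rfl) }
  have hπ : ∀ d, ψ (π d) = d := fun d => (hinv d).choose_spec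
  have hπi : ∀ d, π d = 1 → d = 1 := by
    intro d hd
    apply Subtype.ext
    rw [← hπ d, hd, map_one]
    rfl
  refine H946.DK.dk_grp hp hE (by omega) (by rwa [show 2 * (2 * f) = 4 * f by omega]) e hrS
    ((MonoidHom.fst S S).comp π) ((MonoidHom.snd S S).comp π) (fun d h1 h2 => hπi d (Prod.ext h1 h2)) ?_ ?_ hrD
  · intro h
    obtain ⟨k, hk⟩ := exists_prime_orderOf_dvd_card' r h
    have h1 : (π k.1).1 = 1 := k.2
    have h2 : orderOf (k.1 : (A ⊓ M : Subgroup (Cfsg.POmega F (Cfsg.quadFormPlus 4 F)))) = r := by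
      rw [Subgroup.orderOf_coe, hk]
    have h3 : π k.1 = (1, (π k.1).2) := Prod.ext h1 rfl
    have h4 : orderOf (π k.1).2 = r := by
      have h5 : orderOf (π k.1) = r := by
        rw [← h2]
        refine orderOf_injective π ?_ _
        rw [injective_iff_map_eq_one]
        exact hπi
      rw [h3, Prod.orderOf_mk, orderOf_one, Nat.lcm_one_left] at h5
      exact h5
    obtain ⟨g, hg⟩ := hreal _ h4
    apply no_snd hr hS hna ψ hψ hA hf hM h4 hg
    rw [← h3, hπ]
    exact k.1.2.2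
  · intro h
    obtain ⟨k, hk⟩ := exists_prime_orderOf_dvd_card' r h
    have h1 : (π k.1).2 = 1 := k.2
    have h2 : orderOf (k.1 : (A ⊓ M : Subgroup (Cfsg.POmega F (Cfsg.quadFormPlus 4 F)))) = r := by
      rw [Subgroup.orderOf_coe, hk]
    have h3 : π k.1 = ((π k.1).1, 1) := Prod.ext rfl h1
    have h4 : orderOf (π k.1).1 = r := by
      have h5 : orderOf (π k.1) = r := by
        rw [← h2]
        refine orderOf_injective π ?_ _
        rw [injective_iff_map_eq_one]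
        exact hπi
      rw [h3, Prod.orderOf_mk, orderOf_one, Nat.lcm_one_right] at h5
      exact h5
    obtain ⟨g, hg⟩ := hreal _ h4
    apply no_fst hr hS hna ψ hψ hA hf hM h4 hg
    rw [← h3, hπ]
    exact k.1.2.2

end Cfsg.Agent.H953.O8
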