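import Cfsg.Agent.H953.Cyc.O8l

/-!
# The numbers for `Ω₇(q)`, `PSp₆(q)` in `PΩ₈⁺(q)` (helper953, S3679)
-/

set_option autoImplicit false

namespace Cfsg.Agent.H953.O8

open Cfsg.Agent.H436

variable {p f d e N S T D r : ℕ}

theorem cop_d (hp : p.Prime) (hf : 1 ≤ f) (hd : d ∣ p ^ f - 1) : Nat.Coprime p d := by
  rw [Nat.Prime.coprime_iff_not_dvd hp]
  intro h
  have h1 := h.trans hd
  have h2 : p ∣ p ^ f := dvd_pow_self p (by omega)
  have h3 : p ∣ p ^ f - (p ^ f - 1) := Nat.dvd_sub h2 h1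
  rw [Nat.sub_sub_self (Nat.one_le_pow _ _ hp.pos)] at h3
  exact hp.one_lt.ne' (Nat.dvd_one.1 h3)

theorem w_pos (hp : p.Prime) (hf : 1 ≤ f) :
    0 < ((p ^ f) ^ 2 - 1) * ((p ^ f) ^ 4 - 1) * ((p ^ f) ^ 6 - 1) := by
  have h : ∀ k, 1 ≤ k → 0 < (p ^ f) ^ k - 1 := by
    intro k hk
    have := Nat.one_lt_pow (show k ≠ 0 by omega) (Nat.one_lt_pow (show f ≠ 0 by omega) hp.one_lt)
    omega
  exact Nat.mul_pos (Nat.mul_pos (h 2 (by norm_num)) (h 4 (by norm_num))) (h 6 (by norm_num))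

theorem num_star (hp : p.Prime) (hf : 1 ≤ f)
    (hN : d * N = (p ^ f) ^ 9 * (((p ^ f) ^ 2 - 1) * ((p ^ f) ^ 4 - 1) * ((p ^ f) ^ 6 - 1)))
    (hT : d ^ 2 * T = (p ^ f) ^ 12 * ((p ^ f) ^ 4 - 1) *
      (((p ^ f) ^ 2 - 1) * ((p ^ f) ^ 4 - 1) * ((p ^ f) ^ 6 - 1)))
    (hTD : T * D = S ^ 2 * (N * e)) : (p ^ f) ^ 3 * ((p ^ f) ^ 4 - 1) * D = d * e * S ^ 2 := by
  have hW := w_pos hp hf
  have hq : 0 < p ^ f := pow_pos hp.pos f
  generalize ((p ^ f) ^ 2 - 1) * ((p ^ f) ^ 4 - 1) * ((p ^ f) ^ 6 - 1) = W at hN hT hW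
  generalize (p ^ f) ^ 4 - 1 = V at hT ⊢
  generalize p ^ f = q at hN hT hq ⊢
  have hpos : 0 < q ^ 9 * W := Nat.mul_pos (pow_pos hq 9) hW
  apply Nat.eq_of_mul_eq_mul_left hpos
  calc q ^ 9 * W * (q ^ 3 * V * D) = (q ^ 12 * V * W) * D := by ring
    _ = d ^ 2 * T * D := by rw [hT]
    _ = d ^ 2 * (T * D) := by ring
    _ = d ^ 2 * (S ^ 2 * (N * e)) := by rw [hTD]
    _ = (d * N) * (d * e * S ^ 2) := by ring
    _ = q ^ 9 * W * (d * e * S ^ 2) := by rw [hN]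

theorem not_pow_e (hp : p.Prime) (hf : 1 ≤ f) (hd : d ∣ p ^ f - 1) (he : e ∣ d * f) : ¬ p ^ f ∣ e := by
  intro h
  have h1 := h.trans he
  have h2 : p ^ f ∣ f := (Nat.Coprime.pow_left f (cop_d hp hf hd)).dvd_of_dvd_mul_left h1
  have h3 := Nat.le_of_dvd (by omega) h2
  have h4 := Nat.lt_pow_self (n := f) hp.one_lt
  omega

theorem pow_dvd_S (hp : p.Prime) (hf : 1 ≤ f) (hd : d ∣ p ^ f - 1) (he : e ∣ d * f) (he0 : e ≠ 0) (hS : S ≠ 0)
    (h : (p ^ f) ^ 3 * ((p ^ f) ^ 4 - 1) * D = d * e * S ^ 2) : p ^ (f + 1) ∣ S := by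
  have h1 : p ^ (3 * f) ∣ d * (e * S ^ 2) := by
    rw [← mul_assoc, ← h, ← pow_mul, mul_comm f 3, mul_assoc]
    exact dvd_mul_right _ _
  have h2 : p ^ (3 * f) ∣ e * S ^ 2 := (Nat.Coprime.pow_left _ (cop_d hp hf hd)).dvd_of_dvd_mul_left h1
  rw [hp.pow_dvd_iff_le_factorization (mul_ne_zero he0 (pow_ne_zero 2 hS)),
    Nat.factorization_mul he0 (pow_ne_zero 2 hS), Finsupp.add_apply, Nat.factorization_pow, Finsupp.smul_apply,
    smul_eq_mul] at h2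
  have h3 : e.factorization p < f := by
    by_contra hcon
    exact not_pow_e hp hf hd he ((hp.pow_dvd_iff_le_factorization he0).2 (by omega))
  rw [hp.pow_dvd_iff_le_factorization hS]
  omega

/-- `S` is not small -/
theorem not_small (hp : p.Prime) (hf : 1 ≤ f) (hq : 4 ≤ p ^ f) (hS : p ^ (f + 1) ∣ S) (hr : f * 4 < r) :
    ¬ (r = 5 ∧ S ∣ 60) ∧ ¬ S ∣ 2 * ((p ^ (2 * f) + 1) / Nat.gcd 2 (p ^ (2 * f) - 1)) := by
  have h2 : p ^ 2 ∣ S := (pow_dvd_pow p (by omega)).trans hS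
  constructor
  · rintro ⟨rfl, h60⟩
    have hf' : f = 1 := by omega
    subst hf'
    rw [pow_one] at hq
    have h3 : p ^ 2 ∣ 60 := h2.trans h60
    have h4 := Nat.le_of_dvd (by norm_num) h3
    have h5 : p ≤ 7 := by
      by_contra hcon
      have : 8 ^ 2 ≤ p ^ 2 := Nat.pow_le_pow_left (by omega) 2
      omega
    interval_cases p
    · exact absurd hp (by norm_num)
    · revert h3; norm_num
    · exact absurd hp (by norm_num)
    · revert h3; norm_num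
  · intro h
    have h3 : 2 * ((p ^ (2 * f) + 1) / Nat.gcd 2 (p ^ (2 * f) - 1)) ∣ 2 * (p ^ (2 * f) + 1) := by
      refine Nat.mul_dvd_mul_left 2 (Nat.div_dvd_of_dvd ?_)
      have h4 : Nat.gcd 2 (p ^ (2 * f) - 1) ∣ p ^ (2 * f) - 1 + 2 :=
        Nat.dvd_add (Nat.gcd_dvd_right _ _) (Nat.gcd_dvd_left _ _)
      have h5 : 1 ≤ p ^ (2 * f) := Nat.one_le_pow _ _ hp.pos
      rwa [show p ^ (2 * f) - 1 + 2 = p ^ (2 * f) + 1 by omega] at h4
    have h4 : p ^ 2 ∣ 2 * (p ^ (2 * f) + 1) := h2.trans (h.trans h3)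
    have h5 : Nat.Coprime p (p ^ (2 * f) + 1) := by
      rw [Nat.Prime.coprime_iff_not_dvd hp]
      intro h6
      have h7 := (Nat.dvd_add_right (dvd_pow_self p (show 2 * f ≠ 0 by omega))).1 h6
      exact hp.one_lt.ne' (Nat.dvd_one.1 h7)
    have h6 : p ^ 2 ∣ 2 := (Nat.Coprime.pow_left 2 h5).dvd_of_dvd_mul_right h4
    have h7 := Nat.le_of_dvd (by norm_num) h6
    have h8 : 2 ^ 2 ≤ p ^ 2 := Nat.pow_le_pow_left hp.two_le 2
    omega

/-- the contradiction -/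
theorem num_final (hp : p.Prime) (hf : 1 ≤ f) (hq : 4 ≤ p ^ f) (hr : f * 4 < r) (hrp : r ≠ p)
    (hd : d = Nat.gcd 2 (p ^ f - 1)) (he : e ∣ d * f)
    (hS : d * S = (p ^ f) ^ 2 * ((p ^ f) ^ 4 - 1))
    (h : (p ^ f) ^ 3 * ((p ^ f) ^ 4 - 1) * D = d * e * S ^ 2)
    (hD : D = S ∨ D ∣ (2 * ((p ^ (2 * f) + 1) / Nat.gcd 2 (p ^ (2 * f) - 1))) ^ 2 ∨
      (r = 5 ∧ (D ∣ 60 ^ 2 ∨ D ∣ 60 * (2 * ((p ^ (2 * f) + 1) / Nat.gcd 2 (p ^ (2 * f) - 1)))))) : False := by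
  have hd1 : d ∣ p ^ f - 1 := by rw [hd]; exact Nat.gcd_dvd_right _ _
  have hcd := cop_d hp hf hd1
  have hV : 0 < (p ^ f) ^ 4 - 1 := by
    have := Nat.one_lt_pow (show 4 ≠ 0 by norm_num) (show 1 < p ^ f by omega)
    omega
  have hq0 : 0 < p ^ f := by omega
  -- the order of `D`
  have hDe : d * D = e * ((p ^ f) * ((p ^ f) ^ 4 - 1)) := by
    have hpos : 0 < (p ^ f) ^ 3 * ((p ^ f) ^ 4 - 1) := Nat.mul_pos (pow_pos hq0 3) hV
    apply Nat.eq_of_mul_eq_mul_left hpos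
    calc (p ^ f) ^ 3 * ((p ^ f) ^ 4 - 1) * (d * D) = d * ((p ^ f) ^ 3 * ((p ^ f) ^ 4 - 1) * D) := by ring
      _ = d * (d * e * S ^ 2) := by rw [h]
      _ = e * (d * S) ^ 2 := by ring
      _ = e * ((p ^ f) ^ 2 * ((p ^ f) ^ 4 - 1)) ^ 2 := by rw [hS]
      _ = _ := by ring
  have hqD : p ^ f ∣ D := by
    have h1 : p ^ f ∣ d * D := by
      rw [hDe, mul_left_comm]
      exact dvd_mul_right _ _
    exact (Nat.Coprime.pow_left f hcd).dvd_of_dvd_mul_left h1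
  have hpD : p ∣ D := (dvd_pow_self p (by omega)).trans hqD
  have hQ1 : ¬ p ∣ p ^ (2 * f) + 1 := by
    intro h6
    have h7 := (Nat.dvd_add_right (dvd_pow_self p (show 2 * f ≠ 0 by omega))).1 h6
    exact hp.one_lt.ne' (Nat.dvd_one.1 h7)
  have h3 : 2 * ((p ^ (2 * f) + 1) / Nat.gcd 2 (p ^ (2 * f) - 1)) ∣ 2 * (p ^ (2 * f) + 1) := by
    refine Nat.mul_dvd_mul_left 2 (Nat.div_dvd_of_dvd ?_)
    have h4 : Nat.gcd 2 (p ^ (2 * f) - 1) ∣ p ^ (2 * f) - 1 + 2 :=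
      Nat.dvd_add (Nat.gcd_dvd_right _ _) (Nat.gcd_dvd_left _ _)
    have h5 : 1 ≤ p ^ (2 * f) := Nat.one_le_pow _ _ hp.pos
    rwa [show p ^ (2 * f) - 1 + 2 = p ^ (2 * f) + 1 by omega] at h4
  rcases hD with hDS | hD | ⟨h5, hD⟩
  · -- `|D| = |S|`
    rw [hDS, hS] at hDe
    have h4 : p ^ f = e := by
      have hpos : 0 < (p ^ f) * ((p ^ f) ^ 4 - 1) := Nat.mul_pos hq0 hV
      apply Nat.eq_of_mul_eq_mul_right hpos
      rw [← hDe]
      ring
    exact not_pow_e hp hf hd1 he (by rw [h4])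
  · have h4 : D ∣ (2 * (p ^ (2 * f) + 1)) ^ 2 := hD.trans (pow_dvd_pow_of_dvd h3 2)
    have h5 : p ∣ 2 * (p ^ (2 * f) + 1) := hp.dvd_of_dvd_pow (hpD.trans h4)
    have h6 : p = 2 := by
      rcases (Nat.Prime.dvd_mul hp).1 h5 with h7 | h7
      · exact (Nat.prime_dvd_prime_iff_eq hp Nat.prime_two).1 h7
      · exact absurd h7 hQ1
    subst h6
    have hd2 : d = 1 := by
      have h7 : d ∣ 2 := by rw [hd]; exact Nat.gcd_dvd_left _ _
      rcases (Nat.dvd_prime Nat.prime_two).1 h7 with h8 | h8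
      · exact h8
      · exfalso
        rw [h8] at hcd
        revert hcd
        norm_num
    rw [hd2, one_mul] at hDe
    -- the odd number `q ^ 2 - 1`
    have h7 : (2 ^ f) ^ 2 - 1 ∣ D := by
      rw [hDe]
      have h24 : ∀ x : ℕ, x ^ 2 - 1 ∣ x ^ 4 - 1 := by
        intro x
        have := Nat.sub_dvd_pow_sub_pow (x ^ 2) 1 2
        rwa [one_pow, ← pow_mul] at this
      exact Dvd.dvd.mul_left (Dvd.dvd.mul_left (h24 _) _) _
    have h8 := h7.trans h4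
    rw [mul_comm 2 f, pow_mul 2 f 2] at h8
    obtain ⟨j, hj⟩ : ∃ j, (2 ^ f) ^ 2 = 2 * j := by
      obtain ⟨k, rfl⟩ := Nat.exists_eq_add_of_le' hf
      exact ⟨(2 ^ k) * 2 ^ (k + 1), by ring⟩
    have h9 : 4 ^ 2 ≤ (2 ^ f) ^ 2 := Nat.pow_le_pow_left hq 2
    rw [hj] at h8 h9
    have hc : Nat.Coprime (2 * j - 1) (2 * (2 * j + 1)) := by
      refine Nat.Coprime.mul_right ?_ ?_
      · rw [Nat.coprime_comm, Nat.Prime.coprime_iff_not_dvd Nat.prime_two]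
        omega
      · have h10 : Nat.gcd (2 * j - 1) (2 * j + 1) ∣ 2 := by
          have h11 := Nat.dvd_sub (Nat.gcd_dvd_right (2 * j - 1) (2 * j + 1)) (Nat.gcd_dvd_left (2 * j - 1) (2 * j + 1))
          rwa [show 2 * j + 1 - (2 * j - 1) = 2 by omega] at h11
        rcases (Nat.dvd_prime Nat.prime_two).1 h10 with h12 | h12
        · exact h12
        · exfalso
          have := h12 ▸ Nat.gcd_dvd_right (2 * j - 1) (2 * j + 1)
          omega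
    have h13 := (hc.pow_right 2).eq_one_of_dvd h8
    omega
  · have hf' : f = 1 := by omega
    subst hf'
    rw [pow_one] at hq
    have h60 : p ∣ 60 → False := by
      intro h
      have h7 : p ∣ 2 * 2 * 3 * 5 := h
      rcases (Nat.Prime.dvd_mul hp).1 h7 with h8 | h8
      · rcases (Nat.Prime.dvd_mul hp).1 h8 with h9 | h9
        · rcases (Nat.Prime.dvd_mul hp).1 h9 with h10 | h10 <;>
          · have := Nat.le_of_dvd (by norm_num) h10
            omega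
        · have := Nat.le_of_dvd (by norm_num) h9
          omega
      · exact hrp (by rw [h5]; exact ((Nat.prime_dvd_prime_iff_eq hp (by norm_num)).1 h8).symm)
    rcases hD with hD | hD
    · exact h60 (hp.dvd_of_dvd_pow (hpD.trans hD))
    · rcases (Nat.Prime.dvd_mul hp).1 (hpD.trans (hD.trans (Nat.mul_dvd_mul_left 60 h3))) with h7 | h7
      · exact h60 h7
      · rcases (Nat.Prime.dvd_mul hp).1 h7 with h8 | h8
        · have := Nat.le_of_dvd (by norm_num) h8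
          omega
        · exact hQ1 h8

end Cfsg.Agent.H953.O8
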